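import Cfsg.Agent.Lib.LinearFrame.LinesMain

/-!
Four coordinate lines: an overgroup of the monomial subgroup of the special linear group with a non-monomial
element is everything, over fields with at least seven elements.
-/

set_option autoImplicit false
set_option linter.unusedSectionVars false

namespace Cfsg.Agent.Lib.LinearFrame

open Matrix Cfsg.Agent.Lib.FormMax

variable {F : Type*} [Field F] [Fintype F]

local notation "𝕍" => (Fin 4 → F)
local notation "𝔾" => GL (Fin 4) F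

variable {H : Subgroup (GL (Fin 4) F)}

theorem exists_pair_outside (x y : Fin 4) : ∃ a b, a ≠ b ∧ a ≠ x ∧ a ≠ y ∧ b ≠ x ∧ b ≠ y := by
  revert x y; decide

theorem four_cases : ∀ a b c d : Fin 4, a ≠ b → a ≠ c → a ≠ d → b ≠ c → b ≠ d → c ≠ d →
    ∀ t, t = a ∨ t = b ∨ t = c ∨ t = d := by
  decide

theorem exists_scalar_four (hq : 7 ≤ Fintype.card F) :
    ∃ s : F, s ≠ 0 ∧ s ≠ 1 ∧ s ≠ -1 ∧ s * s + 1 ≠ 0 ∧ s ^ 4 ≠ 1 := by
  classical
  obtain ⟨s, -, hs⟩ := Finset.exists_mem_notMem_of_card_lt_card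
    (s := insert (0 : F) ((Polynomial.nthRoots 4 (1 : F)).toFinset)) (t := (Finset.univ : Finset F)) (by
      have h1 := Finset.card_insert_le (0 : F) ((Polynomial.nthRoots 4 (1 : F)).toFinset)
      have h2 := (Multiset.toFinset_card_le _).trans (Polynomial.card_nthRoots 4 (1 : F))
      rw [Finset.card_univ]; omega)
  simp only [Finset.mem_insert, Multiset.mem_toFinset, Polynomial.mem_nthRoots (show 0 < 4 by norm_num),
    not_or] at hs
  refine ⟨s, hs.1, ?_, ?_, ?_, hs.2⟩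
  · rintro rfl; exact hs.2 (one_pow 4)
  · rintro rfl; exact hs.2 (by ring)
  · intro e; exact hs.2 (by linear_combination (s * s - 1) * e)

section

variable (hq : 7 ≤ Fintype.card F) (hH : H ≤ slGL 4 F) (hM : ContainsMono H)

include hq hH hM

/-- A column with two zeros. -/
theorem four_two_zeros {g : 𝔾} (hg : g ∈ H) (hgn : ¬IsMono g) {j c₀ c₁ : Fin 4} (h01 : c₀ ≠ c₁)
    (h0 : ((g : Matrix (Fin 4) (Fin 4) F) *ᵥ Pi.single j 1) c₀ = 0)
    (h1 : ((g : Matrix (Fin 4) (Fin 4) F) *ᵥ Pi.single j 1) c₁ = 0) : H = slGL 4 F := by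
  have h5 : 5 ≤ Fintype.card F := by omega
  obtain ⟨a, b, hab, ha0, ha1, hb0, hb1⟩ := exists_pair_outside c₀ c₁
  have hcases : ∀ t : Fin 4, t = a ∨ t = b ∨ t = c₀ ∨ t = c₁ :=
    four_cases a b c₀ c₁ hab ha0 ha1 hb0 hb1 h01
  set u := (g : Matrix (Fin 4) (Fin 4) F) *ᵥ Pi.single j 1 with hu
  by_cases hua : u a = 0
  · exact eq_slGL_of_three_zeros le_rfl h5 hH hM hg hgn h01 ha0.symm ha1.symm h0 h1 hua
  by_cases hub : u b = 0
  · exact eq_slGL_of_three_zeros le_rfl h5 hH hM hg hgn h01 hb0.symm hb1.symm h0 h1 hub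
  rcases pair_zeros le_rfl h5 hH hM hg h0 c₁ h01 h1 with e | hA
  · exact e
  obtain ⟨l, hl⟩ := exists_col_ne g c₀
  set x := (g : Matrix (Fin 4) (Fin 4) F) *ᵥ Pi.single l 1 with hx
  have hxa : x a = 0 := hA l hl a ha0 ha1
  have hxb : x b = 0 := hA l hl b hb0 hb1
  obtain ⟨s, hs0, hs1, hs2, hs3, -⟩ := exists_scalar_four hq
  obtain ⟨d, hd, hdm, hda, hdb, hdo, -⟩ := exists_torus hab hs0
  set y := g⁻¹ * d * g with hy
  have hgy : ∀ z : 𝕍, (g : Matrix (Fin 4) (Fin 4) F) *ᵥ ((y : Matrix (Fin 4) (Fin 4) F) *ᵥ z) =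
      (d : Matrix (Fin 4) (Fin 4) F) *ᵥ ((g : Matrix (Fin 4) (Fin 4) F) *ᵥ z) := fun z => by
    rw [hy, Units.val_mul, Units.val_mul, ← mulVec_mulVec, ← mulVec_mulVec, mulVec_inv_mulVec]
  by_cases hym : IsMono y
  swap
  · refine eq_slGL_of_fix le_rfl h5 hH hM (m := l)
      (H.mul_mem (H.mul_mem (H.inv_mem hg) (hM d hd hdm)) hg) (c := 1) ?_ hym
    rw [one_smul]
    refine mulVec_inj g ((hgy _).trans (funext fun t => ?_))
    rcases eq_or_ne t a with rfl | hta
    · rw [hda, ← hx, hxa, mul_zero]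
    rcases eq_or_ne t b with rfl | htb
    · rw [hdb, ← hx, hxb, mul_zero]
    · rw [hdo _ t hta htb]
  obtain ⟨π, c, hπ, hc0, hc⟩ := hym.exists_map
  exfalso
  set S : F := s + s⁻¹ with hS
  have hS0 : S ≠ 0 := fun e => hs3 (by rw [hS] at e; field_simp at e; linear_combination e)
  have hu0 : ∀ t, t ≠ a → t ≠ b → u t = 0 := fun t h1' h2' => by
    rcases hcases t with rfl | rfl | rfl | rfl
    · exact absurd rfl h1'
    · exact absurd rfl h2'
    · exact h0
    · exact h1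
  have hquad : (d : Matrix (Fin 4) (Fin 4) F) *ᵥ ((d : Matrix (Fin 4) (Fin 4) F) *ᵥ u) + u =
      S • ((d : Matrix (Fin 4) (Fin 4) F) *ᵥ u) := by
    funext t
    rw [Pi.add_apply, Pi.smul_apply, smul_eq_mul, hS]
    rcases eq_or_ne t a with rfl | hta
    · simp only [hda]; field_simp
    rcases eq_or_ne t b with rfl | htb
    · simp only [hdb]; field_simp; ring
    · simp only [hdo _ t hta htb, hu0 t hta htb]; ring
  rw [hu, ← hgy, ← hgy, ← mulVec_add, ← mulVec_smul] at hquad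
  have h2 := congrFun (mulVec_inj g hquad) (π j)
  rcases eq_or_ne (π j) j with hπj | hπj
  · -- an eigenvector with two nonzero coordinates
    have h3 := hgy (Pi.single j 1)
    rw [hc, hπj, mulVec_smul, ← hu] at h3
    have ea := congrFun h3 a
    have eb := congrFun h3 b
    rw [Pi.smul_apply, smul_eq_mul, hda] at ea
    rw [Pi.smul_apply, smul_eq_mul, hdb] at eb
    have e1 := mul_right_cancel₀ hua ea
    have e2 := mul_right_cancel₀ hub eb
    have e3 : s * s = 1 := by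
      rw [e1] at e2
      field_simp at e2
      linear_combination e2
    rcases mul_self_eq_one_iff.mp e3 with h | h
    · exact hs1 h
    · exact hs2 h
  · have hππ : π (π j) ≠ π j := fun e => hπj (hπ e)
    simp only [hc, mulVec_smul, smul_smul, Pi.add_apply, Pi.smul_apply, smul_eq_mul, Pi.single_eq_same,
      Pi.single_eq_of_ne hπj, Pi.single_eq_of_ne hππ.symm, mul_zero, add_zero, mul_one] at h2
    exact mul_ne_zero hS0 (hc0 j) h2.symm

/-- A zero entry. -/
theorem four_zero_entry {g : 𝔾} (hg : g ∈ H) (hgn : ¬IsMono g) {i k : Fin 4}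
    (hki : ((g : Matrix (Fin 4) (Fin 4) F) *ᵥ Pi.single i 1) k = 0) : H = slGL 4 F := by
  have h5 : 5 ≤ Fintype.card F := by omega
  obtain ⟨μ, hμ0, -, -, -, hμ4⟩ := exists_scalar_four hq
  obtain ⟨d, hd, hdm, hdx, hdk, -⟩ := exists_phased (1 : Equiv.Perm (Fin 4)) k (fun _ => μ) (fun _ _ => hμ0)
  have hprod : ∏ _l ∈ Finset.univ.erase k, μ = μ ^ 3 := by
    rw [Finset.prod_const, Finset.card_erase_of_mem (Finset.mem_univ k), Finset.card_univ, Fintype.card_fin]
  set ν : F := (μ ^ 3)⁻¹ - μ with hν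
  have hν0 : ν ≠ 0 := fun e => hμ4 (by
    rw [hν, sub_eq_zero] at e
    field_simp at e
    linear_combination -e)
  have hdv : ∀ z : 𝕍, (d : Matrix (Fin 4) (Fin 4) F) *ᵥ z = μ • z + (ν * z k) • Pi.single k 1 := fun z => by
    funext t
    rw [Pi.add_apply, Pi.smul_apply, Pi.smul_apply, smul_eq_mul, smul_eq_mul]
    rcases eq_or_ne t k with rfl | ht
    · rw [hdk, hprod, Pi.single_eq_same, hν, Equiv.Perm.sign_one]
      simp
      ring
    · rw [hdx _ _ ht, Pi.single_eq_of_ne ht, Equiv.Perm.one_apply, mul_zero, add_zero]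
  set y := g⁻¹ * d * g with hy
  set P : 𝕍 := ((g⁻¹ : 𝔾) : Matrix (Fin 4) (Fin 4) F) *ᵥ Pi.single k 1 with hP
  have hyx : ∀ z : 𝕍, (y : Matrix (Fin 4) (Fin 4) F) *ᵥ z =
      μ • z + (ν * ((g : Matrix (Fin 4) (Fin 4) F) *ᵥ z) k) • P := fun z => by
    rw [hy, Units.val_mul, Units.val_mul, ← mulVec_mulVec, ← mulVec_mulVec, hdv, mulVec_add, mulVec_smul,
      mulVec_smul, inv_mulVec_mulVec]
  by_cases hym : IsMono y
  swap
  · refine eq_slGL_of_fix le_rfl h5 hH hM (m := i)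
      (H.mul_mem (H.mul_mem (H.inv_mem hg) (hM d hd hdm)) hg) (c := μ) ?_ hym
    rw [hyx, hki, mul_zero, zero_smul, add_zero]
  obtain ⟨l, hl⟩ := exists_col_ne g k
  obtain ⟨o, c, hc⟩ := hym l
  obtain ⟨t₁, t₂, h12, h1l, h1o, h2l, h2o⟩ := exists_pair_outside l o
  have hPt : ∀ t, t ≠ l → t ≠ o → P t = 0 := fun t htl hto => by
    have h1 := congrFun ((hyx (Pi.single l 1)).symm.trans hc) t
    rw [Pi.add_apply, Pi.smul_apply, Pi.smul_apply, Pi.smul_apply, Pi.single_eq_of_ne htl, Pi.single_eq_of_ne hto,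
      smul_zero, smul_zero, zero_add, smul_eq_mul] at h1
    exact (mul_eq_zero.mp h1).resolve_left (mul_ne_zero hν0 hl)
  exact four_two_zeros hq hH hM (H.inv_mem hg) (fun h' => hgn (by simpa using h'.inv)) (j := k) h12
    (hPt t₁ h1l h1o) (hPt t₂ h2l h2o)

/-- Four lines: an element not permuting the coordinate lines forces everything. -/
theorem eq_slGL_of_not_mono_four {g : 𝔾} (hg : g ∈ H) (hgn : ¬IsMono g) : H = slGL 4 F := by
  classical
  have h5 : 5 ≤ Fintype.card F := by omega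
  by_cases hz : ∃ g' ∈ H, ¬IsMono g' ∧ ∃ i k, ((g' : Matrix (Fin 4) (Fin 4) F) *ᵥ Pi.single i 1) k = 0
  · obtain ⟨g', hg', hgn', i, k, hik⟩ := hz
    exact four_zero_entry hq hH hM hg' hgn' hik
  push Not at hz
  exfalso
  set A : Fin 4 → 𝕍 := fun a => ((g⁻¹ : 𝔾) : Matrix (Fin 4) (Fin 4) F) *ᵥ Pi.single a 1 with hA
  set C : Fin 4 → 𝕍 := fun l => (g : Matrix (Fin 4) (Fin 4) F) *ᵥ Pi.single l 1 with hC
  have hC0 : ∀ l t, C l t ≠ 0 := hz g hg hgn
  have hA0 : ∀ l t, A l t ≠ 0 := hz g⁻¹ (H.inv_mem hg) fun h' => hgn (by simpa using h'.inv)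
  have hgA : ∀ a, (g : Matrix (Fin 4) (Fin 4) F) *ᵥ A a = Pi.single a 1 := fun a => mulVec_inv_mulVec g _
  have hsum : ∀ i j, i ≠ j → ∑ a, C j a * A a i = 0 := fun i j hij => by
    rw [← mulVec_eq_sum_col, hC, inv_mulVec_mulVec, Pi.single_eq_of_ne hij]
  have hyof : ∀ (d : 𝔾) (z : 𝕍), ((g⁻¹ * d * g : 𝔾) : Matrix (Fin 4) (Fin 4) F) *ᵥ z =
      ∑ a, ((d : Matrix (Fin 4) (Fin 4) F) *ᵥ ((g : Matrix (Fin 4) (Fin 4) F) *ᵥ z)) a • A a := fun d z => by
    rw [Units.val_mul, Units.val_mul, ← mulVec_mulVec, ← mulVec_mulVec]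
    conv_lhs => rw [sum_single ((d : Matrix (Fin 4) (Fin 4) F) *ᵥ ((g : Matrix (Fin 4) (Fin 4) F) *ᵥ z)),
      mulVec_sum]
    simp only [mulVec_smul, hA]
  by_cases hR : ∃ a b i j, a ≠ b ∧ i ≠ j ∧ (A b i * C j b) * (A b i * C j b) ≠ (A a i * C j a) * (A a i * C j a)
  · obtain ⟨a, b, i, j, hab, hij, hne⟩ := hR
    set s := A b i * C j b / (A a i * C j a) with hs
    have hden : A a i * C j a ≠ 0 := mul_ne_zero (hA0 a i) (hC0 j a)
    have hs0 : s ≠ 0 := div_ne_zero (mul_ne_zero (hA0 b i) (hC0 j b)) hden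
    have hsT : s * (A a i * C j a) = A b i * C j b := div_mul_cancel₀ _ hden
    have hs2 : s * s ≠ 1 := fun e => hne (by rw [← hsT]; linear_combination (A a i * C j a) ^ 2 * e)
    have hs1 : s ≠ 1 := fun e => hs2 (by rw [e, one_mul])
    obtain ⟨d, hd, hdm, hda, hdb, hdo, -⟩ := exists_torus hab hs0
    have hdz : ∀ x : 𝕍, (d : Matrix (Fin 4) (Fin 4) F) *ᵥ x =
        x + ((s - 1) * x a) • Pi.single a 1 + ((s⁻¹ - 1) * x b) • Pi.single b 1 := fun x => by
      funext t
      simp only [Pi.add_apply, Pi.smul_apply, smul_eq_mul]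
      rcases eq_or_ne t a with rfl | hta
      · simp [hda, hab]; ring
      rcases eq_or_ne t b with rfl | htb
      · simp [hdb, hta]; ring
      · simp [hdo _ t hta htb, hta, htb]
    set y := g⁻¹ * d * g with hy
    have hyx : ∀ z : 𝕍, (y : Matrix (Fin 4) (Fin 4) F) *ᵥ z = z +
        ((s - 1) * ((g : Matrix (Fin 4) (Fin 4) F) *ᵥ z) a) • A a +
        ((s⁻¹ - 1) * ((g : Matrix (Fin 4) (Fin 4) F) *ᵥ z) b) • A b := fun z => by
      rw [hy, Units.val_mul, Units.val_mul, ← mulVec_mulVec, ← mulVec_mulVec, hdz, mulVec_add, mulVec_add,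
        mulVec_smul, mulVec_smul, inv_mulVec_mulVec]
    by_cases hym : IsMono y
    swap
    · refine hz y (H.mul_mem (H.mul_mem (H.inv_mem hg) (hM d hd hdm)) hg) hym j i ?_
      rw [hyx]
      simp only [Pi.add_apply, Pi.smul_apply, smul_eq_mul, Pi.single_eq_of_ne hij, zero_add]
      show (s - 1) * C j a * A a i + (s⁻¹ - 1) * C j b * A b i = 0
      linear_combination (s⁻¹ - 1) * -hsT + A a i * C j a * mul_inv_cancel₀ hs0
    obtain ⟨π, c, hπ, hc0, hc⟩ := hym.exists_map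
    have hycoord : ∀ (z : 𝕍) l, ((y : Matrix (Fin 4) (Fin 4) F) *ᵥ z) (π l) = c l * z l := fun z l => by
      rw [mulVec_eq_sum_col, Finset.sum_eq_single l]
      · rw [hc, Pi.smul_apply, Pi.single_eq_same, smul_eq_mul]; ring
      · intro k _ hk
        rw [hc, Pi.smul_apply, Pi.single_eq_of_ne (fun e => hk (hπ e).symm)]; simp
      · simp
    have hrel : ∀ l, A b (π l) * A a l = A a (π l) * A b l * (s * s) := fun l => by
      have h1 : (y : Matrix (Fin 4) (Fin 4) F) *ᵥ A a = s • A a := by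
        rw [hyx, hgA, Pi.single_eq_same, Pi.single_eq_of_ne hab.symm]; module
      have h2 : (y : Matrix (Fin 4) (Fin 4) F) *ᵥ A b = s⁻¹ • A b := by
        rw [hyx, hgA, Pi.single_eq_same, Pi.single_eq_of_ne hab]; module
      have e1 := congrFun h1 (π l)
      have e2 := congrFun h2 (π l)
      rw [hycoord, Pi.smul_apply, smul_eq_mul] at e1 e2
      refine mul_left_cancel₀ (hc0 l) ?_
      linear_combination A b (π l) * e1 - A a (π l) * (s * s) * e2 -
        s * A a (π l) * A b (π l) * mul_inv_cancel₀ hs0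
    have hfix : ∀ l, π l ≠ l := fun l e => hs2 (by
      have h1 := hrel l
      rw [e] at h1
      exact mul_left_cancel₀ (mul_ne_zero (hA0 b l) (hA0 a l)) (by linear_combination -h1))
    obtain ⟨t, ht1, ht2, ht3, ht4⟩ : ∃ t, t ≠ 0 ∧ t ≠ π 0 ∧ π t ≠ 0 ∧ π t ≠ π 0 := by
      obtain ⟨t₁, t₂, h12, h10, h1π, h20, h2π⟩ := exists_pair_outside 0 (π 0)
      by_cases h : π t₁ = 0
      · exact ⟨t₂, h20, h2π, fun h' => h12 (hπ (h.trans h'.symm)), fun h' => h20 (hπ h')⟩
      · exact ⟨t₁, h10, h1π, h, fun h' => h10 (hπ h')⟩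
    have hoff : ∀ r, r ≠ 0 → r ≠ π 0 →
        (s - 1) * C 0 a * A a r + (s⁻¹ - 1) * C 0 b * A b r = 0 := fun r h1 h2 => by
      have h3 := congrFun ((hyx (Pi.single 0 1)).symm.trans (hc 0)) r
      simpa [h1, h2, hC] using h3
    have hcoef : (s⁻¹ - 1) * C 0 b ≠ 0 :=
      mul_ne_zero (sub_ne_zero.mpr fun e => hs1 (by rw [← inv_inv s, e, inv_one])) (hC0 0 b)
    have h1 : A b (π t) * A a t = A a (π t) * A b t := mul_left_cancel₀ hcoef (by
      linear_combination A a t * hoff (π t) ht3 ht4 - A a (π t) * hoff t ht1 ht2)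
    refine hs2 (mul_left_cancel₀ (mul_ne_zero (hA0 b (π t)) (hA0 a t)) ?_)
    linear_combination (s * s) * h1 - hrel t
  push Not at hR
  by_cases h2 : (2 : F) = 0
  · -- equal products
    have heq : ∀ a b i j, a ≠ b → i ≠ j → A b i * C j b = A a i * C j a := fun a b i j hab hij => by
      have h := hR a b i j hab hij
      have : (A b i * C j b - A a i * C j a) * (A b i * C j b - A a i * C j a) = 0 := by
        linear_combination h + (A a i * C j a * (A a i * C j a) - A a i * C j a * (A b i * C j b)) * h2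
      exact sub_eq_zero.mp (mul_self_eq_zero.mp this)
    have h01 : (0 : Fin 4) ≠ 1 := by decide
    have hprop : ∀ i k, A 1 i * A 0 k = A 0 i * A 1 k := fun i k => by
      obtain ⟨j, -, -, hji, hjk, -, -⟩ := exists_pair_outside i k
      refine mul_right_cancel₀ (mul_ne_zero (hC0 j 0) (hC0 j 1)) ?_
      linear_combination (A 0 k * C j 0) * heq 0 1 i j h01 hji.symm - (A 0 i * C j 0) * heq 0 1 k j h01 hjk.symm
    have h1 : A 0 0 • A 1 = A 1 0 • A 0 := funext fun k => by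
      simp only [Pi.smul_apply, smul_eq_mul]; linear_combination -hprop 0 k
    have h3 := congrArg ((g : Matrix (Fin 4) (Fin 4) F) *ᵥ ·) h1
    simp only [mulVec_smul, hgA] at h3
    have h4 := congrFun h3 1
    simp [h01.symm] at h4
    exact hA0 0 0 h4
  -- signs: two products in each class
  have h01 : (0 : Fin 4) ≠ 1 := by decide
  set T : 𝕍 := fun a => C 1 a * A a 0 with hT
  have hTsum : ∑ a, T a = 0 := hsum 0 1 h01
  have hT2 : ∀ a, T a = T 0 ∨ T a = -T 0 := fun a => by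
    rcases eq_or_ne a 0 with rfl | ha
    · exact Or.inl rfl
    · exact mul_self_eq_mul_self_iff.mp (by
        have := hR 0 a 0 1 (Ne.symm ha) h01
        simp only [hT]; linear_combination this)
  obtain ⟨a', ha', hTa'⟩ : ∃ a', a' ≠ 0 ∧ T 0 + T a' = 0 := by
    by_contra hno
    push Not at hno
    have hall : ∀ a, T a = T 0 := fun a => by
      rcases eq_or_ne a 0 with rfl | ha
      · rfl
      exact (hT2 a).resolve_right fun h => hno a ha (by rw [h, add_neg_cancel])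
    rw [Finset.sum_congr rfl (fun a _ => hall a), Finset.sum_const, Finset.card_univ, Fintype.card_fin] at hTsum
    have h4 : (2 : F) * (2 * T 0) = 0 := by
      rw [nsmul_eq_mul] at hTsum
      push_cast at hTsum
      linear_combination hTsum
    exact mul_ne_zero h2 (mul_ne_zero h2 (mul_ne_zero (hC0 1 0) (hA0 0 0))) h4
  obtain ⟨b, b', hbb, hb0, hba, hb'0, hb'a⟩ := exists_pair_outside 0 a'
  have huniv : (Finset.univ : Finset (Fin 4)) = {0, a', b, b'} := by
    ext t; simpa using four_cases 0 a' b b' (Ne.symm ha') hb0.symm hb'0.symm hba.symm hb'a.symm hbb t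
  have hTb : T b + T b' = 0 := by
    rw [huniv, Finset.sum_insert (by simp [Ne.symm ha', hb0.symm, hb'0.symm]),
      Finset.sum_insert (by simp [hba.symm, hb'a.symm]), Finset.sum_pair hbb] at hTsum
    linear_combination hTsum - hTa'
  obtain ⟨s, hs0, hs1, hs2, hs3, -⟩ := exists_scalar_four hq
  obtain ⟨d, hd, hdm, hdv, -⟩ := exists_scaledPerm (1 : Equiv.Perm (Fin 4))
    (fun t => if t = 0 ∨ t = a' then s else s⁻¹) (fun t => by split_ifs <;> simp [hs0]) (by
      rw [huniv, Finset.prod_insert (by simp [Ne.symm ha', hb0.symm, hb'0.symm]),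
        Finset.prod_insert (by simp [hba.symm, hb'a.symm]), Finset.prod_pair hbb]
      simp [hb0, hba, hb'0, hb'a]
      field_simp)
  set y := g⁻¹ * d * g with hy
  have hgy : ∀ z : 𝕍, (g : Matrix (Fin 4) (Fin 4) F) *ᵥ ((y : Matrix (Fin 4) (Fin 4) F) *ᵥ z) =
      (d : Matrix (Fin 4) (Fin 4) F) *ᵥ ((g : Matrix (Fin 4) (Fin 4) F) *ᵥ z) := fun z => by
    rw [hy, Units.val_mul, Units.val_mul, ← mulVec_mulVec, ← mulVec_mulVec, mulVec_inv_mulVec]
  by_cases hym : IsMono y
  swap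
  · refine hz y (H.mul_mem (H.mul_mem (H.inv_mem hg) (hM d hd hdm)) hg) hym 1 0 ?_
    rw [hy, hyof, huniv, Finset.sum_insert (by simp [Ne.symm ha', hb0.symm, hb'0.symm]),
      Finset.sum_insert (by simp [hba.symm, hb'a.symm]), Finset.sum_pair hbb]
    simp only [Pi.add_apply, Pi.smul_apply, smul_eq_mul, hdv, Equiv.Perm.one_apply, hb0, hba, hb'0, hb'a,
      or_self, or_true, true_or, if_true, if_false]
    show s * C 1 0 * A 0 0 + (s * C 1 a' * A a' 0 + (s⁻¹ * C 1 b * A b 0 + s⁻¹ * C 1 b' * A b' 0)) = 0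
    linear_combination s * hTa' + s⁻¹ * hTb
  obtain ⟨π, c, hπ, hc0, hc⟩ := hym.exists_map
  set S : F := s + s⁻¹ with hS
  have hS0 : S ≠ 0 := fun e => hs3 (by rw [hS] at e; field_simp at e; linear_combination e)
  have hquad : (d : Matrix (Fin 4) (Fin 4) F) *ᵥ ((d : Matrix (Fin 4) (Fin 4) F) *ᵥ C 0) + C 0 =
      S • ((d : Matrix (Fin 4) (Fin 4) F) *ᵥ C 0) := by
    funext t
    simp only [Pi.add_apply, Pi.smul_apply, smul_eq_mul, hdv, Equiv.Perm.one_apply, hS]
    split_ifs <;> field_simp <;> ring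
  rw [hC] at hquad
  simp only [← hgy, ← mulVec_add, ← mulVec_smul] at hquad
  have h3 := congrFun (mulVec_inj g hquad) (π 0)
  rcases eq_or_ne (π 0) 0 with hπ0 | hπ0
  · have h4 := hgy (Pi.single 0 1)
    rw [hc, hπ0, mulVec_smul] at h4
    have ea := congrFun h4 0
    have eb := congrFun h4 b
    simp only [Pi.smul_apply, smul_eq_mul, hdv, Equiv.Perm.one_apply, true_or, if_true] at ea
    simp only [Pi.smul_apply, smul_eq_mul, hdv, Equiv.Perm.one_apply, hb0, hba, or_self, if_false] at eb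
    have e1 := mul_right_cancel₀ (hC0 0 0) ea
    have e2 := mul_right_cancel₀ (hC0 0 b) eb
    rw [e1] at e2
    field_simp at e2
    rcases mul_self_eq_one_iff.mp (show s * s = 1 by linear_combination e2) with h | h
    · exact hs1 h
    · exact hs2 h
  · have hππ : π (π 0) ≠ π 0 := fun e => hπ0 (hπ e)
    simp only [hc, mulVec_smul, smul_smul, Pi.add_apply, Pi.smul_apply, smul_eq_mul, Pi.single_eq_same,
      Pi.single_eq_of_ne hπ0, Pi.single_eq_of_ne hππ.symm, mul_zero, add_zero, mul_one] at h3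
    exact mul_ne_zero hS0 (hc0 0) h3.symm

end

end Cfsg.Agent.Lib.LinearFrame
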