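import Cfsg.Agent.Lib.LinearFrame.BlocksMain
import Cfsg.Agent.Lib.LinearFrame.LinesFour

/-!
The stabiliser of a decomposition in the special linear group is maximal.
-/

set_option autoImplicit false
set_option linter.unusedSectionVars false

namespace Cfsg.Agent.Lib.LinearFrame

open Matrix Cfsg.Agent.Lib.FormMax

variable {F : Type*} [Field F] [Fintype F] {n t m : ℕ}

/-- Coordinates in which the stabiliser of a decomposition is the group permuting the coordinate blocks. -/
theorem exists_coords {D : Fin t → Submodule F (Fin n → F)} (hD : Cfsg.Geo.IsMDecomposition m D) :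
    ∃ (e : Fin n ≃ Fin t × Fin m) (P : GL (Fin n) F), ∀ g : GL (Fin n) F,
      g ∈ Cfsg.Geo.decompositionStabilizer D ↔ BlockMono e (P⁻¹ * g * P) := by
  classical
  have hint : DirectSum.IsInternal D :=
    (DirectSum.isInternal_submodule_iff_iSupIndep_and_iSup_eq_top D).mpr ⟨hD.indep, hD.iSup_eq_top⟩
  let v : ∀ i, Module.Basis (Fin m) F (D i) := fun i => Module.finBasisOfFinrankEq F (D i) (hD.finrank_eq i)
  set b := (hint.collectedBasis v).reindex (Equiv.sigmaEquivProd (Fin t) (Fin m)) with hb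
  have hcard : n = t * m := by
    have := Module.finrank_fintype_fun_eq_card F (η := Fin n)
    rw [Module.finrank_eq_card_basis b] at this
    simpa using this.symm
  let e : Fin n ≃ Fin t × Fin m :=
    Fintype.equivOfCardEq (by rw [Fintype.card_prod, Fintype.card_fin, Fintype.card_fin, Fintype.card_fin]; exact hcard)
  let L : (Fin n → F) ≃ₗ[F] (Fin n → F) := (b.reindex e.symm).equivFun.symm
  let P : GL (Fin n) F :=
    { val := LinearMap.toMatrix' L.toLinearMap
      inv := LinearMap.toMatrix' L.symm.toLinearMap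
      val_inv := by
        rw [← LinearMap.toMatrix'_comp]
        simp
      inv_val := by
        rw [← LinearMap.toMatrix'_comp]
        simp }
  have hPs : ∀ j, (P : Matrix (Fin n) (Fin n) F) *ᵥ Pi.single j 1 = b (e j) := by
    intro j
    show LinearMap.toMatrix' L.toLinearMap *ᵥ _ = _
    rw [← Matrix.toLin'_apply, Matrix.toLin'_toMatrix']
    show (b.reindex e.symm).equivFun.symm (Pi.single j 1) = _
    rw [Module.Basis.equivFun_symm_apply, Finset.sum_eq_single j]
    · simp
    · intro k _ hk; simp [hk]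
    · simp
  have hPi : ∀ w i, (((P⁻¹ : GL (Fin n) F) : Matrix (Fin n) (Fin n) F) *ᵥ w) i = b.repr w (e i) := by
    intro w i
    show (LinearMap.toMatrix' L.symm.toLinearMap *ᵥ w) i = _
    rw [← Matrix.toLin'_apply, Matrix.toLin'_toMatrix']
    show (b.reindex e.symm).equivFun w i = _
    simp [Module.Basis.equivFun_apply]
  have hmem : ∀ x, b x ∈ D x.1 := by
    intro x
    rw [hb, Module.Basis.reindex_apply]
    exact hint.collectedBasis_mem v (⟨x.1, x.2⟩ : Σ _ : Fin t, Fin m)
  have hzero : ∀ (k : Fin t) (w : Fin n → F), w ∈ D k → ∀ x : Fin t × Fin m, x.1 ≠ k → b.repr w x = 0 := by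
    intro k w hw x hx
    rw [hb, Module.Basis.repr_reindex_apply]
    exact hint.collectedBasis_repr_of_mem_ne v (Ne.symm hx) hw
  refine ⟨e, P, fun g => ⟨?_, ?_⟩⟩
  · rintro ⟨σ, hσ⟩
    refine ⟨σ, fun i j hij => ?_⟩
    by_contra hne
    refine hij ?_
    have h1 : ((P⁻¹ * g * P : GL (Fin n) F) : Matrix (Fin n) (Fin n) F) i j =
        (((P⁻¹ : GL (Fin n) F) : Matrix (Fin n) (Fin n) F) *ᵥ ((g : Matrix (Fin n) (Fin n) F) *ᵥ
          ((P : Matrix (Fin n) (Fin n) F) *ᵥ Pi.single j 1))) i := by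
      rw [Matrix.mulVec_mulVec, Matrix.mulVec_mulVec, Units.val_mul, Units.val_mul, mul_assoc]
      simp
    rw [h1, hPs, hPi]
    refine hzero (σ (e j).1) _ ?_ _ hne
    rw [← hσ, ← Matrix.toLin'_apply]
    exact Submodule.mem_map_of_mem (hmem _)
  · rintro ⟨σ, hσ⟩
    refine ⟨σ, fun i => ?_⟩
    refine Submodule.eq_of_le_of_finrank_eq ?_ ?_
    · rintro _ ⟨w, hw, rfl⟩
      have hgw : (g : Matrix (Fin n) (Fin n) F) *ᵥ w = (P : Matrix (Fin n) (Fin n) F) *ᵥ
          (((P⁻¹ * g * P : GL (Fin n) F) : Matrix (Fin n) (Fin n) F) *ᵥ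
            (((P⁻¹ : GL (Fin n) F) : Matrix (Fin n) (Fin n) F) *ᵥ w)) := by
        rw [mulVec_mulVec, mulVec_mulVec, ← Units.val_mul, ← Units.val_mul]
        simp [mul_assoc]
      rw [Matrix.toLin'_apply, hgw]
      set y := ((P⁻¹ * g * P : GL (Fin n) F) : Matrix (Fin n) (Fin n) F) *ᵥ
        (((P⁻¹ : GL (Fin n) F) : Matrix (Fin n) (Fin n) F) *ᵥ w) with hy
      have hy0 : ∀ a, (e a).1 ≠ σ i → y a = 0 := fun a ha => by
        rw [hy]
        show ∑ c, ((P⁻¹ * g * P : GL (Fin n) F) : Matrix (Fin n) (Fin n) F) a c *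
          (((P⁻¹ : GL (Fin n) F) : Matrix (Fin n) (Fin n) F) *ᵥ w) c = 0
        refine Finset.sum_eq_zero fun c _ => ?_
        by_cases hc : ((P⁻¹ * g * P : GL (Fin n) F) : Matrix (Fin n) (Fin n) F) a c = 0
        · rw [hc, zero_mul]
        · rw [hPi, hzero i w hw _ (fun h => ha (by rw [hσ a c hc, h])), mul_zero]
      rw [sum_single y, mulVec_sum]
      refine Submodule.sum_mem _ fun a _ => ?_
      rw [mulVec_smul, hPs]
      by_cases ha : (e a).1 = σ i
      · exact Submodule.smul_mem _ _ (ha ▸ hmem (e a))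
      · rw [hy0 a ha, zero_smul]; exact Submodule.zero_mem _
    · rw [← LinearEquiv.finrank_eq (Submodule.equivMapOfInjective _ (fun x y h => mulVec_inj g
          (by simpa [Matrix.toLin'_apply] using h)) (D i)), hD.finrank_eq, hD.finrank_eq]

/-- With blocks of size one the two notions agree. -/
theorem blockMono_iff_isMono {e : Fin n ≃ Fin t × Fin 1} {g : GL (Fin n) F} : BlockMono e g ↔ IsMono g := by
  classical
  constructor
  · rintro ⟨σ, hσ⟩ l
    refine ⟨e.symm (σ (e l).1, 0), _, eq_smul_single fun a ha => ?_⟩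
    by_contra hne
    have h1 := hσ a l (by simpa using hne)
    exact ha (e.injective (by rw [Equiv.apply_symm_apply]; exact Prod.ext h1 (Subsingleton.elim _ _)))
  · intro hg
    obtain ⟨π, c, hπ, -, hc⟩ := hg.exists_map
    refine ⟨Equiv.ofBijective (fun i => (e (π (e.symm (i, 0)))).1)
      (Finite.injective_iff_bijective.mp fun i j h => ?_), fun a b hab => ?_⟩
    · have h1 : π (e.symm (i, 0)) = π (e.symm (j, 0)) := e.injective (Prod.ext h (Subsingleton.elim _ _))
      simpa using hπ h1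
    · have h1 : a = π b := by
        by_contra hne
        refine hab ?_
        have := congrFun (hc b) a
        simpa [hne] using this
      have h2 : e.symm ((e b).1, 0) = b := by
        rw [Equiv.symm_apply_eq]
        exact Prod.ext rfl (Subsingleton.elim _ _)
      rw [Equiv.ofBijective_apply, h2, h1]

/-- Maximality of the stabiliser of a decomposition, given the case of lines. -/
theorem isMaximalIn_decomposition_of (hn : 4 ≤ n) {D : Fin t → Submodule F (Fin n → F)}
    (hD : Cfsg.Geo.IsMDecomposition m D)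
    (hlines : m = 1 → ∀ H : Subgroup (GL (Fin n) F), H ≤ slGL n F → ContainsMono H →
      ∀ g ∈ H, ¬ IsMono g → H = slGL n F)
    (h2 : ¬ (m = 2 ∧ Fintype.card F = 2)) (h3 : m = 2 → t = 2 → 4 ≤ Fintype.card F) :
    Cfsg.Geo.IsMaximalIn (slGL n F) (Cfsg.Geo.decompositionStabilizer D ⊓ slGL n F) := by
  classical
  obtain ⟨e, P, hP⟩ := exists_coords hD
  have hsl : ∀ k : GL (Fin n) F, P * k * P⁻¹ ∈ slGL n F ↔ k ∈ slGL n F := fun k => by
    show Matrix.GeneralLinearGroup.det (P * k * P⁻¹) = 1 ↔ Matrix.GeneralLinearGroup.det k = 1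
    rw [map_mul, map_mul, map_inv, mul_inv_cancel_comm]
  have hsub : Cfsg.Geo.decompositionStabilizer D ⊓ slGL n F ≤ slGL n F := inf_le_right
  refine ⟨lt_of_le_of_ne hsub fun heq => ?_, fun M hKM hMS => ?_⟩
  · -- a transvection between two blocks
    have ht := hD.two_le
    have hm := hD.pos
    set a := e.symm (⟨0, by omega⟩, ⟨0, hm⟩) with ha
    set b := e.symm (⟨1, by omega⟩, ⟨0, hm⟩) with hb
    have hab : (e a).1 ≠ (e b).1 := by simp [ha, hb]
    have hab' : a ≠ b := fun h => hab (by rw [h])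
    set k : GL (Fin n) F := SpecialLinearGroup.toGL (SpecialLinearGroup.transvection hab' (1 : F)) with hk
    have hks : k ∈ slGL n F := mem_slGL_iff.mpr (SpecialLinearGroup.transvection hab' (1 : F)).2
    have h3 : P * k * P⁻¹ ∈ Cfsg.Geo.decompositionStabilizer D ⊓ slGL n F := by
      rw [heq]; exact (hsl k).mpr hks
    obtain ⟨σ, hσ⟩ := (hP _).mp h3.1
    have hval : ((P⁻¹ * (P * k * P⁻¹) * P : GL (Fin n) F) : Matrix (Fin n) (Fin n) F) =
        Matrix.transvection a b (1 : F) := by
      rw [show P⁻¹ * (P * k * P⁻¹) * P = k by group]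
      rfl
    rw [hval] at hσ
    refine hab ((hσ a b ?_).trans (hσ b b ?_).symm)
    · simp [Matrix.transvection, hab']
    · simp [Matrix.transvection, hab']
  · by_cases hMK : M ≤ Cfsg.Geo.decompositionStabilizer D ⊓ slGL n F
    · exact Or.inl (le_antisymm hMK hKM)
    right
    obtain ⟨g, hgM, hgK⟩ := SetLike.not_le_iff_exists.mp hMK
    set H : Subgroup (GL (Fin n) F) := M.comap (MulAut.conj P).toMonoidHom with hH
    have hmemH : ∀ k, k ∈ H ↔ P * k * P⁻¹ ∈ M := fun k => Iff.rfl
    have hHsl : H ≤ slGL n F := fun k hk => (hsl k).mp (hMS ((hmemH k).mp hk))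
    have hB : ContainsBlocks e H := fun k hk hkb => (hmemH k).mpr (hKM ⟨(hP _).mpr (by
      rw [show P⁻¹ * (P * k * P⁻¹) * P = k by group]; exact hkb), (hsl k).mpr hk⟩)
    set g' := P⁻¹ * g * P with hg'
    have hg'H : g' ∈ H := (hmemH g').mpr (by rw [hg', show P * (P⁻¹ * g * P) * P⁻¹ = g by group]; exact hgM)
    have hg'n : ¬ BlockMono e g' := fun h => hgK ⟨(hP g).mpr h, hMS hgM⟩
    have hall : H = slGL n F := by
      rcases Nat.lt_or_ge m 2 with hm | hm
      · obtain rfl : m = 1 := by have := hD.pos; omega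
        exact hlines rfl H hHsl (fun k hk hkm => hB k hk (blockMono_iff_isMono.mpr hkm)) g' hg'H
          (fun h => hg'n (blockMono_iff_isMono.mpr h))
      · exact eq_slGL_of_not_block (by omega) hm h2 h3 hD.two_le hHsl hB hg'H hg'n
    refine le_antisymm hMS fun k hk => ?_
    have h3 : P⁻¹ * k * P ∈ slGL n F := (hsl _).mp (by rw [show P * (P⁻¹ * k * P) * P⁻¹ = k by group]; exact hk)
    rw [← hall, hmemH, show P * (P⁻¹ * k * P) * P⁻¹ = k by group] at h3
    exact h3

/-- Maximality of the stabiliser of a decomposition. -/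
theorem isMaximalIn_decomposition (hn : 6 ≤ n) {D : Fin t → Submodule F (Fin n → F)}
    (hD : Cfsg.Geo.IsMDecomposition m D) (h1 : ¬ (m = 1 ∧ Fintype.card F ≤ 4))
    (h2 : ¬ (m = 2 ∧ Fintype.card F = 2)) :
    Cfsg.Geo.IsMaximalIn (slGL n F) (Cfsg.Geo.decompositionStabilizer D ⊓ slGL n F) := by
  refine isMaximalIn_decomposition_of (by omega) hD (fun hm H hH hM g hg hgn => ?_) h2 fun hm ht => ?_
  · exact eq_slGL_of_not_mono (by omega) (by by_contra hq; exact h1 ⟨hm, by omega⟩) hH hM hn hg hgn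
  · obtain ⟨e, -⟩ := exists_coords hD
    have := Fintype.card_congr e
    simp [hm, ht] at this
    omega

end Cfsg.Agent.Lib.LinearFrame
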