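import Cfsg.Agent.Lib.FormMax.Trans
import Cfsg.Prelude.Def_GeometricClasses

/-!
Transvections and monomial elements for overgroups of decomposition stabilisers in the special linear group.
-/

set_option autoImplicit false
set_option linter.unusedSectionVars false

namespace Cfsg.Agent.Lib.LinearFrame

open Matrix Cfsg.Agent.Lib.FormMax

variable {F : Type*} [Field F] [Fintype F] {n : ℕ}

local notation "Vs" => (Fin n → F)
local notation "G" => GL (Fin n) F

/-- The special linear group inside `GL`. -/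
abbrev slGL (n : ℕ) (F : Type*) [Field F] : Subgroup (GL (Fin n) F) := Cfsg.Geo.specialLinear (Fin n) F

/-- `g` permutes the coordinate lines. -/
def IsMono (g : G) : Prop :=
  ∀ l : Fin n, ∃ (o : Fin n) (c : F), (g : Matrix (Fin n) (Fin n) F) *ᵥ Pi.single l 1 = c • Pi.single o 1

/-- The transvection `x ↦ x + (φ ⬝ x) v` lies in `H`. -/
def TrIn (H : Subgroup G) (v φ : Vs) : Prop :=
  ∃ g ∈ H, ∀ x : Vs, (g : Matrix (Fin n) (Fin n) F) *ᵥ x = x + (φ ⬝ᵥ x) • v

theorem mem_slGL_iff {g : G} : g ∈ slGL n F ↔ (g : Matrix (Fin n) (Fin n) F).det = 1 := by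
  show Matrix.GeneralLinearGroup.det g = 1 ↔ _
  rw [← Units.val_eq_one]
  exact Iff.rfl

theorem inv_mulVec_mulVec (g : G) (x : Vs) :
    ((g⁻¹ : G) : Matrix (Fin n) (Fin n) F) *ᵥ ((g : Matrix (Fin n) (Fin n) F) *ᵥ x) = x := by
  rw [mulVec_mulVec, ← Units.val_mul, inv_mul_cancel, Units.val_one, one_mulVec]

theorem mulVec_inv_mulVec (g : G) (x : Vs) :
    (g : Matrix (Fin n) (Fin n) F) *ᵥ (((g⁻¹ : G) : Matrix (Fin n) (Fin n) F) *ᵥ x) = x := by
  rw [mulVec_mulVec, ← Units.val_mul, mul_inv_cancel, Units.val_one, one_mulVec]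

theorem mulVec_inj (g : G) {x y : Vs}
    (e : (g : Matrix (Fin n) (Fin n) F) *ᵥ x = (g : Matrix (Fin n) (Fin n) F) *ᵥ y) : x = y := by
  rw [← inv_mulVec_mulVec g x, e, inv_mulVec_mulVec]

theorem single_ne (l : Fin n) : (Pi.single l 1 : Vs) ≠ 0 := fun e => by
  simpa using congrFun e l

theorem sum_single (x : Vs) : x = ∑ l, x l • (Pi.single l 1 : Vs) := by
  funext k; simp [Finset.sum_apply, Pi.single_apply]

/-- An entry as a sum over the columns. -/
theorem mulVec_eq_sum_col (g : G) (x : Vs) (k : Fin n) :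
    ((g : Matrix (Fin n) (Fin n) F) *ᵥ x) k =
      ∑ l, x l * ((g : Matrix (Fin n) (Fin n) F) *ᵥ Pi.single l 1) k := by
  conv_lhs => rw [sum_single x, mulVec_sum, Finset.sum_apply]
  exact Finset.sum_congr rfl fun l _ => by rw [mulVec_smul, Pi.smul_apply, smul_eq_mul]

theorem exists_col_ne (g : G) (k : Fin n) :
    ∃ l, ((g : Matrix (Fin n) (Fin n) F) *ᵥ Pi.single l 1) k ≠ 0 := by
  by_contra hno
  push Not at hno
  have h1 := congrFun (mulVec_inv_mulVec g (Pi.single k 1)) k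
  rw [mulVec_eq_sum_col, Pi.single_eq_same, Finset.sum_eq_zero fun l _ => by rw [hno l, mul_zero]] at h1
  exact zero_ne_one h1

theorem IsMono.mul {g g' : G} (hg : IsMono g) (hg' : IsMono g') : IsMono (g * g') := by
  intro l
  obtain ⟨o, c, hc⟩ := hg' l
  obtain ⟨o', c', hc'⟩ := hg o
  exact ⟨o', c * c', by rw [Units.val_mul, ← mulVec_mulVec, hc, mulVec_smul, hc', smul_smul]⟩

theorem IsMono.exists_map {g : G} (hg : IsMono g) :
    ∃ (π : Fin n → Fin n) (c : Vs), Function.Injective π ∧ (∀ l, c l ≠ 0) ∧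
      ∀ l, (g : Matrix (Fin n) (Fin n) F) *ᵥ Pi.single l 1 = c l • Pi.single (π l) 1 := by
  choose π c hc using hg
  have hc0 : ∀ l, c l ≠ 0 := fun l e => single_ne (F := F) l (by
    rw [← inv_mulVec_mulVec g (Pi.single l 1), hc, e, zero_smul, mulVec_zero])
  refine ⟨π, c, fun a b e => ?_, hc0, hc⟩
  by_contra hne
  have h1 : (g : Matrix (Fin n) (Fin n) F) *ᵥ (c b • Pi.single a 1 - c a • Pi.single b 1) =
      (g : Matrix (Fin n) (Fin n) F) *ᵥ 0 := by
    rw [mulVec_sub, mulVec_smul, mulVec_smul, hc, hc, e, smul_smul, smul_smul, mul_comm (c b), sub_self,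
      mulVec_zero]
  have h3 := congrFun (mulVec_inj g h1) a
  simp [Pi.single_eq_of_ne hne] at h3
  exact hc0 b h3

theorem IsMono.inv {g : G} (hg : IsMono g) : IsMono g⁻¹ := by
  obtain ⟨π, c, hπ, hc0, hc⟩ := hg.exists_map
  intro o
  obtain ⟨l, rfl⟩ := (Finite.injective_iff_surjective.mp hπ) o
  refine ⟨l, (c l)⁻¹, ?_⟩
  have h1 := congrArg (((g⁻¹ : G) : Matrix (Fin n) (Fin n) F) *ᵥ ·) (hc l)
  simp only [inv_mulVec_mulVec, mulVec_smul] at h1
  conv_rhs => rw [h1]
  rw [inv_smul_smul₀ (hc0 l)]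

/-- A scaled permutation. -/
theorem exists_scaledPerm (σ : Equiv.Perm (Fin n)) (d : Vs) (hd : ∀ l, d l ≠ 0)
    (hdet : (∏ l, d l) * ((Equiv.Perm.sign σ : ℤ) : F) = 1) :
    ∃ g ∈ slGL n F, IsMono g ∧
      (∀ x m, ((g : Matrix (Fin n) (Fin n) F) *ᵥ x) m = d m * x (σ m)) ∧
      ∀ a b, (g : Matrix (Fin n) (Fin n) F) a b ≠ 0 → σ a = b := by
  classical
  set M : Matrix (Fin n) (Fin n) F := Matrix.diagonal d * σ.permMatrix F with hMdef
  have hMv : ∀ x m, (M *ᵥ x) m = d m * x (σ m) := fun x m => by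
    rw [hMdef, ← mulVec_mulVec, mulVec_diagonal, Matrix.permMatrix_mulVec]; rfl
  have hdet1 : M.det = 1 := by rw [hMdef, det_mul, det_diagonal, Matrix.det_permutation]; exact hdet
  set g := Matrix.GeneralLinearGroup.mkOfDetNeZero M (by rw [hdet1]; exact one_ne_zero) with hg
  have hgv : (g : Matrix (Fin n) (Fin n) F) = M := rfl
  refine ⟨g, mem_slGL_iff.mpr hdet1, fun l => ⟨σ.symm l, d (σ.symm l), funext fun m => ?_⟩,
    fun x m => by rw [hgv, hMv], fun a b hab => ?_⟩
  · rw [hgv, hMv, Pi.smul_apply, smul_eq_mul]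
    rcases eq_or_ne m (σ.symm l) with rfl | hne
    · rw [Equiv.apply_symm_apply, Pi.single_eq_same, Pi.single_eq_same]
    · rw [Pi.single_eq_of_ne hne, Pi.single_eq_of_ne (fun e => hne (by rw [← e, Equiv.symm_apply_apply])),
        mul_zero, mul_zero]
  · by_contra hne
    refine hab ?_
    have h1 := hMv (Pi.single b 1) a
    rw [Pi.single_eq_of_ne hne, mul_zero] at h1
    rw [hgv]
    simpa using h1

theorem sign_mul_self (σ : Equiv.Perm (Fin n)) :
    ((Equiv.Perm.sign σ : ℤ) : F) * ((Equiv.Perm.sign σ : ℤ) : F) = 1 := by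
  rcases Int.units_eq_one_or (Equiv.Perm.sign σ) with e | e <;> rw [e] <;> simp

theorem sign_ne_zero (σ : Equiv.Perm (Fin n)) : ((Equiv.Perm.sign σ : ℤ) : F) ≠ 0 :=
  left_ne_zero_of_mul_eq_one (sign_mul_self σ)

/-- A scaled permutation with given scalars at all but one place. -/
theorem exists_phased (σ : Equiv.Perm (Fin n)) (o : Fin n) (d : Vs) (hd : ∀ l, l ≠ o → d l ≠ 0) :
    ∃ g ∈ slGL n F, IsMono g ∧
      (∀ x m, m ≠ o → ((g : Matrix (Fin n) (Fin n) F) *ᵥ x) m = d m * x (σ m)) ∧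
      (∀ x, ((g : Matrix (Fin n) (Fin n) F) *ᵥ x) o =
        ((∏ l ∈ Finset.univ.erase o, d l) * ((Equiv.Perm.sign σ : ℤ) : F))⁻¹ * x (σ o)) ∧
      ∀ a b, (g : Matrix (Fin n) (Fin n) F) a b ≠ 0 → σ a = b := by
  classical
  set c : F := ((∏ l ∈ Finset.univ.erase o, d l) * ((Equiv.Perm.sign σ : ℤ) : F))⁻¹ with hc
  have hP : (∏ l ∈ Finset.univ.erase o, d l) ≠ 0 :=
    Finset.prod_ne_zero_iff.mpr fun l hl => hd l (Finset.ne_of_mem_erase hl)
  have hc0 : c ≠ 0 := inv_ne_zero (mul_ne_zero hP (sign_ne_zero σ))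
  obtain ⟨g, hg, hgm, hgv, hgs⟩ := exists_scaledPerm σ (Function.update d o c) (fun l => by
      rcases eq_or_ne l o with rfl | hl
      · simpa using hc0
      · simpa [Function.update_of_ne hl] using hd l hl) (by
      rw [← Finset.mul_prod_erase Finset.univ _ (Finset.mem_univ o),
        Finset.prod_congr rfl (fun l hl => Function.update_of_ne (Finset.ne_of_mem_erase hl) c d),
        Function.update_self, hc, mul_assoc, inv_mul_cancel₀ (mul_ne_zero hP (sign_ne_zero σ))])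
  exact ⟨g, hg, hgm, fun x m hm => by rw [hgv, Function.update_of_ne hm],
    fun x => by rw [hgv, Function.update_self], hgs⟩

/-- A two-point diagonal element. -/
theorem exists_torus {k o : Fin n} (hko : k ≠ o) {s : F} (hs : s ≠ 0) :
    ∃ g ∈ slGL n F, IsMono g ∧ (∀ x, ((g : Matrix (Fin n) (Fin n) F) *ᵥ x) k = s * x k) ∧
      (∀ x, ((g : Matrix (Fin n) (Fin n) F) *ᵥ x) o = s⁻¹ * x o) ∧
      (∀ x m, m ≠ k → m ≠ o → ((g : Matrix (Fin n) (Fin n) F) *ᵥ x) m = x m) ∧
      ∀ a b, (g : Matrix (Fin n) (Fin n) F) a b ≠ 0 → a = b := by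
  classical
  set d : Vs := Function.update 1 k s with hd
  obtain ⟨g, hg, hgm, hgv, hgo, hgs⟩ := exists_phased (1 : Equiv.Perm (Fin n)) o d (fun l _ => by
    rcases eq_or_ne l k with rfl | h1
    · simpa [hd] using hs
    · simp [hd, Function.update_of_ne h1])
  have hP : ∏ l ∈ Finset.univ.erase o, d l = s := by
    rw [Finset.prod_eq_single k (fun l _ hl => by simp [hd, Function.update_of_ne hl])
      (fun e => absurd (Finset.mem_erase.mpr ⟨hko, Finset.mem_univ k⟩) e)]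
    simp [hd]
  refine ⟨g, hg, hgm, fun x => ?_, fun x => ?_, fun x m h1 h2 => ?_, hgs⟩
  · rw [hgv x k hko]; simp [hd]
  · rw [hgo, hP]; simp
  · rw [hgv x m h2]; simp [hd, Function.update_of_ne h1]

variable {H : Subgroup (GL (Fin n) F)}

theorem TrIn.congr {v φ v' φ' : Vs} (h : TrIn H v φ) (e : ∀ x : Vs, (φ ⬝ᵥ x) • v = (φ' ⬝ᵥ x) • v') :
    TrIn H v' φ' := by
  obtain ⟨g, hg, hgx⟩ := h
  exact ⟨g, hg, fun x => by rw [hgx, e]⟩

/-- Conjugating a transvection. -/
theorem TrIn.map {g : G} (hg : g ∈ H) {v φ ψ : Vs} (h : TrIn H v φ)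
    (hψ : ∀ x : Vs, ψ ⬝ᵥ ((g : Matrix (Fin n) (Fin n) F) *ᵥ x) = φ ⬝ᵥ x) :
    TrIn H ((g : Matrix (Fin n) (Fin n) F) *ᵥ v) ψ := by
  obtain ⟨t, ht, htx⟩ := h
  refine ⟨g * t * g⁻¹, H.mul_mem (H.mul_mem hg ht) (H.inv_mem hg), fun x => ?_⟩
  rw [Units.val_mul, Units.val_mul, ← mulVec_mulVec, ← mulVec_mulVec, htx, mulVec_add, mulVec_smul,
    mulVec_inv_mulVec, ← hψ, mulVec_inv_mulVec]

theorem TrIn.sub_center {v w φ : Vs} (hv : TrIn H v φ) (hvw : TrIn H (v + w) φ) (h1 : φ ⬝ᵥ v = 0)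
    (h2 : φ ⬝ᵥ w = 0) : TrIn H w φ := by
  obtain ⟨g, hg, hgx⟩ := hv
  obtain ⟨g', hg', hg'x⟩ := hvw
  refine ⟨g⁻¹ * g', H.mul_mem (H.inv_mem hg) hg', fun x => mulVec_inj g ?_⟩
  rw [Units.val_mul, ← mulVec_mulVec, mulVec_inv_mulVec, hg'x, hgx, dotProduct_add, dotProduct_smul, h2, smul_zero,
    add_zero]
  module

theorem TrIn.sub_axis {v φ ψ : Vs} (hφ : TrIn H v φ) (hφψ : TrIn H v (φ + ψ)) (h1 : φ ⬝ᵥ v = 0)
    (h2 : ψ ⬝ᵥ v = 0) : TrIn H v ψ := by
  obtain ⟨g, hg, hgx⟩ := hφ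
  obtain ⟨g', hg', hg'x⟩ := hφψ
  refine ⟨g⁻¹ * g', H.mul_mem (H.inv_mem hg) hg', fun x => mulVec_inj g ?_⟩
  rw [Units.val_mul, ← mulVec_mulVec, mulVec_inv_mulVec, hg'x, hgx, dotProduct_add, dotProduct_smul, h1,
    smul_zero, add_zero, add_dotProduct]
  module

theorem TrIn.zero_axis (v : Vs) : TrIn H v 0 :=
  ⟨1, H.one_mem, fun x => by rw [Units.val_one, one_mulVec, zero_dotProduct, zero_smul, add_zero]⟩

/-- All elementary transvections give everything. -/
theorem eq_slGL_of_elem (hH : H ≤ slGL n F)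
    (hall : ∀ a b : Fin n, a ≠ b → ∀ c : F, TrIn H (Pi.single a c) (Pi.single b 1)) : H = slGL n F := by
  classical
  refine le_antisymm hH fun g hg => ?_
  have hK : H.comap (SpecialLinearGroup.toGL : SpecialLinearGroup (Fin n) F →* G) = ⊤ := by
    refine LinGroup.eq_top_of_transvection_mem _ fun i j hij c => ?_
    obtain ⟨t, ht, htx⟩ := hall i j hij c
    have e : SpecialLinearGroup.toGL (SpecialLinearGroup.transvection hij c) = t := by
      refine gl_ext fun x => funext fun k => ?_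
      rw [htx]
      show (Matrix.transvection i j c *ᵥ x) k = _
      rw [LinGroup.transvection_mulVec_apply]
      by_cases hk : k = i
      · subst hk; simp [single_dotProduct]; ring
      · simp [hk, single_dotProduct]
    show SpecialLinearGroup.toGL (SpecialLinearGroup.transvection hij c) ∈ H
    rw [e]
    exact ht
  obtain ⟨s, hs⟩ : g ∈ (SpecialLinearGroup.toGL : SpecialLinearGroup (Fin n) F →* G).range := by
    rw [LinGroup.range_toGL]; exact hg
  have : s ∈ H.comap (SpecialLinearGroup.toGL : SpecialLinearGroup (Fin n) F →* G) := hK ▸ Subgroup.mem_top s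
  exact hs ▸ this

/-- Inverse transpose. -/
def dualHom : G →* G where
  toFun g := ⟨((g⁻¹ : G) : Matrix (Fin n) (Fin n) F)ᵀ, (g : Matrix (Fin n) (Fin n) F)ᵀ,
    by rw [← transpose_mul, ← Units.val_mul, mul_inv_cancel, Units.val_one, transpose_one],
    by rw [← transpose_mul, ← Units.val_mul, inv_mul_cancel, Units.val_one, transpose_one]⟩
  map_one' := Units.ext (by simp)
  map_mul' a b := Units.ext (by simp [transpose_mul])

theorem dualHom_val (g : G) :
    (dualHom g : Matrix (Fin n) (Fin n) F) = ((g⁻¹ : G) : Matrix (Fin n) (Fin n) F)ᵀ := rfl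

theorem dualHom_dualHom (g : G) : dualHom (dualHom g) = g := by
  refine Units.ext ?_
  rw [dualHom_val, ← map_inv, dualHom_val, inv_inv, transpose_transpose]

/-- The group of inverse transposes. -/
def dual (H : Subgroup G) : Subgroup G := H.comap dualHom

theorem mem_dual {g : G} : g ∈ dual H ↔ dualHom g ∈ H := Iff.rfl

theorem dual_dual : dual (dual H) = H := by
  ext g; rw [mem_dual, mem_dual, dualHom_dualHom]

theorem dualHom_mem_slGL {g : G} (hg : g ∈ slGL n F) : dualHom g ∈ slGL n F := by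
  rw [mem_slGL_iff, dualHom_val, det_transpose]
  exact mem_slGL_iff.mp ((slGL n F).inv_mem hg)

theorem dual_le (hH : H ≤ slGL n F) : dual H ≤ slGL n F := fun g hg => by
  have := dualHom_mem_slGL (hH hg)
  rwa [dualHom_dualHom] at this

theorem eq_of_dual_eq (hH : dual H = slGL n F) : H = slGL n F := by
  refine le_antisymm (fun g hg => ?_) fun g hg => ?_
  · have h1 : dualHom g ∈ dual H := by rw [mem_dual, dualHom_dualHom]; exact hg
    rw [hH] at h1
    have := dualHom_mem_slGL h1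
    rwa [dualHom_dualHom] at this
  · have h1 : dualHom g ∈ dual H := by rw [hH]; exact dualHom_mem_slGL hg
    rwa [mem_dual, dualHom_dualHom] at h1

theorem IsMono.dualHom {g : G} (hg : IsMono g) : IsMono (LinearFrame.dualHom g) := by
  obtain ⟨π, c, hπ, hc0, hc⟩ := hg.inv.exists_map
  intro l
  obtain ⟨o, rfl⟩ := (Finite.injective_iff_surjective.mp hπ) l
  refine ⟨o, c o, funext fun k => ?_⟩
  have h1 := congrFun (hc k) (π o)
  rw [dualHom_val]
  simp only [mulVec_single, MulOpposite.op_one, one_smul, col_apply, transpose_apply, Pi.smul_apply,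
    smul_eq_mul] at h1 ⊢
  rw [h1]
  rcases eq_or_ne k o with rfl | hk
  · simp
  · simp [hk, Pi.single_eq_of_ne (fun e => hk (hπ e).symm)]

theorem TrIn.dual {v φ : Vs} (h : TrIn H v φ) (h0 : φ ⬝ᵥ v = 0) : TrIn (LinearFrame.dual H) φ (-v) := by
  obtain ⟨g, hg, hgx⟩ := h
  refine ⟨LinearFrame.dualHom g, by rw [mem_dual, dualHom_dualHom]; exact hg, fun x => ?_⟩
  apply mulVec_inj (LinearFrame.dualHom g)⁻¹
  rw [inv_mulVec_mulVec, ← map_inv, dualHom_val, inv_inv]
  funext k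
  have e : ∀ j, (g : Matrix (Fin n) (Fin n) F) j k = (Pi.single k 1 : Vs) j + φ k * v j := fun j => by
    have h1 := congrFun (hgx (Pi.single k 1)) j
    simpa [dotProduct_single, mul_comm] using h1
  simp only [mulVec, transpose_apply, e, dotProduct, Pi.add_apply, Pi.smul_apply, smul_eq_mul, Pi.neg_apply]
  simp only [mul_add, add_mul, Finset.sum_add_distrib, Pi.single_apply, ite_mul, mul_ite, zero_mul, mul_zero,
    one_mul, mul_one, Finset.sum_ite_eq', Finset.mem_univ, if_true, neg_mul, Finset.sum_neg_distrib]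
  have h1 : ∑ j, φ k * v j * ((∑ i, v i * x i) * φ j) = φ k * (∑ i, v i * x i) * (φ ⬝ᵥ v) := by
    rw [dotProduct, Finset.mul_sum]
    exact Finset.sum_congr rfl fun j _ => by ring
  have h2 : ∑ j, φ k * v j * x j = φ k * ∑ i, v i * x i := by
    rw [Finset.mul_sum]; exact Finset.sum_congr rfl fun j _ => by ring
  simp only [mul_neg, neg_mul, Finset.sum_neg_distrib, h1, h2, h0]
  ring

end Cfsg.Agent.Lib.LinearFrame
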