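import Cfsg.Agent.Lib.LinearFrame.Basic

/-!
Overgroups of the stabiliser in the special linear group of a decomposition into blocks of size at least two.
-/

set_option autoImplicit false
set_option linter.unusedSectionVars false

namespace Cfsg.Agent.Lib.LinearFrame

open Matrix Cfsg.Agent.Lib.FormMax

variable {F : Type*} [Field F] [Fintype F] {n t m : ℕ}

local notation "Vs" => (Fin n → F)
local notation "G" => GL (Fin n) F

/-- `g` permutes the coordinate blocks. -/
def BlockMono (e : Fin n ≃ Fin t × Fin m) (g : G) : Prop :=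
  ∃ σ : Equiv.Perm (Fin t), ∀ a b, (g : Matrix (Fin n) (Fin n) F) a b ≠ 0 → (e a).1 = σ (e b).1

/-- `H` contains all such elements of the special linear group. -/
def ContainsBlocks (e : Fin n ≃ Fin t × Fin m) (H : Subgroup G) : Prop :=
  ∀ g ∈ slGL n F, BlockMono e g → g ∈ H

/-- The vectors supported in one block. -/
def InBlock (e : Fin n ≃ Fin t × Fin m) (i : Fin t) (v : Vs) : Prop := ∀ l, (e l).1 ≠ i → v l = 0

/-- A full family of transvections. -/
def Pair (H : Subgroup G) (v φ : Vs) : Prop := φ ⬝ᵥ v = 0 ∧ ∀ c : F, TrIn H (c • v) φ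

variable {e : Fin n ≃ Fin t × Fin m} {H : Subgroup (GL (Fin n) F)}

theorem BlockMono.inv {g : G} (hg : BlockMono e g) : BlockMono e g⁻¹ := by
  classical
  obtain ⟨σ, hσ⟩ := hg
  refine ⟨σ⁻¹, fun a b hab => ?_⟩
  by_contra hne
  refine hab ?_
  set x := ((g⁻¹ : G) : Matrix (Fin n) (Fin n) F) *ᵥ Pi.single b 1 with hx
  have hxa : ((g⁻¹ : G) : Matrix (Fin n) (Fin n) F) a b = x a := by simp [hx]
  rw [hxa]
  set x' : Vs := fun l => if (e l).1 = (e a).1 then x l else 0 with hx'
  have h0 : (g : Matrix (Fin n) (Fin n) F) *ᵥ x' = (g : Matrix (Fin n) (Fin n) F) *ᵥ 0 := by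
    rw [mulVec_zero]
    funext k
    by_cases hk : (e k).1 = σ (e a).1
    · have h1 : ((g : Matrix (Fin n) (Fin n) F) *ᵥ x') k = ((g : Matrix (Fin n) (Fin n) F) *ᵥ x) k := by
        show ∑ l, (g : Matrix (Fin n) (Fin n) F) k l * x' l = ∑ l, (g : Matrix (Fin n) (Fin n) F) k l * x l
        refine Finset.sum_congr rfl fun l _ => ?_
        rcases eq_or_ne ((g : Matrix (Fin n) (Fin n) F) k l) 0 with h | h
        · rw [h, zero_mul, zero_mul]
        · have h2 : (e l).1 = (e a).1 := σ.injective ((hσ k l h).symm.trans hk)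
          simp [hx', h2]
      rw [h1, hx, mulVec_inv_mulVec, Pi.single_eq_of_ne, Pi.zero_apply]
      rintro rfl
      exact hne (by rw [hk]; simp)
    · show ∑ l, (g : Matrix (Fin n) (Fin n) F) k l * x' l = 0
      refine Finset.sum_eq_zero fun l _ => ?_
      rcases eq_or_ne ((g : Matrix (Fin n) (Fin n) F) k l) 0 with h | h
      · rw [h, zero_mul]
      · have h2 : (e l).1 ≠ (e a).1 := fun h' => hk (by rw [hσ k l h, h'])
        simp [hx', h2]
  have := congrFun (mulVec_inj g h0) a
  simpa [hx'] using this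

theorem BlockMono.dualHom {g : G} (hg : BlockMono e g) : BlockMono e (LinearFrame.dualHom g) := by
  obtain ⟨σ, hσ⟩ := hg.inv
  refine ⟨σ⁻¹, fun a b hab => ?_⟩
  rw [dualHom_val, transpose_apply] at hab
  rw [hσ b a hab]; simp

theorem ContainsBlocks.dual (hM : ContainsBlocks e H) : ContainsBlocks e (LinearFrame.dual H) :=
  fun g hg hm => mem_dual.mpr (hM _ (dualHom_mem_slGL hg) hm.dualHom)

theorem Pair.smul {v φ : Vs} (h : Pair H v φ) (s : F) : Pair H (s • v) φ :=
  ⟨by rw [dotProduct_smul, h.1, smul_zero], fun c => by rw [smul_smul]; exact h.2 _⟩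

theorem Pair.dual {v φ : Vs} (h : Pair H v φ) : Pair (LinearFrame.dual H) φ (-v) := by
  refine ⟨by rw [neg_dotProduct, dotProduct_comm, h.1, neg_zero], fun c => ?_⟩
  refine (((h.2 c).dual (by rw [dotProduct_smul, h.1, smul_zero]))).congr fun x => ?_
  rw [← smul_neg, smul_dotProduct, smul_smul, smul_eq_mul, mul_comm]

theorem Pair.neg_neg {v φ : Vs} (h : Pair H (-v) (-φ)) : Pair H v φ := by
  refine ⟨by simpa using h.1, fun c => (h.2 c).congr fun x => ?_⟩
  rw [neg_dotProduct, smul_neg, neg_smul, smul_neg, _root_.neg_neg]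

/-- Elements with one small displacement in each of two blocks. -/
theorem exists_blockElt (hM : ContainsBlocks e H) {i k : Fin t} (hik : i ≠ k) {w ψ u ψ' : Vs}
    (hw : InBlock e i w) (hψ : InBlock e i ψ) (hu : InBlock e k u) (hψ' : InBlock e k ψ')
    (hdet : (1 + ψ ⬝ᵥ w) * (1 + ψ' ⬝ᵥ u) = 1) :
    ∃ g ∈ H, ∀ x : Vs, (g : Matrix (Fin n) (Fin n) F) *ᵥ x = x + (ψ ⬝ᵥ x) • w + (ψ' ⬝ᵥ x) • u := by
  classical
  have h0 : ∀ {i k : Fin t}, i ≠ k → ∀ {a b : Vs}, InBlock e i a → InBlock e k b → a ⬝ᵥ b = 0 := by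
    intro i k hik a b ha hb
    refine Finset.sum_eq_zero fun l _ => ?_
    by_cases h : (e l).1 = i
    · rw [hb l (by rw [h]; exact hik), mul_zero]
    · rw [ha l h, zero_mul]
  set M : Matrix (Fin n) (Fin n) F := (1 + vecMulVec w ψ) * (1 + vecMulVec u ψ') with hMdef
  have hdet1 : M.det = 1 := by
    rw [hMdef, det_mul, vecMulVec_eq Unit, det_one_add_replicateCol_mul_replicateRow, vecMulVec_eq Unit,
      det_one_add_replicateCol_mul_replicateRow]
    exact hdet
  have hMeq : M = 1 + vecMulVec w ψ + vecMulVec u ψ' := by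
    rw [hMdef, add_mul, one_mul, mul_add, mul_one, vecMulVec_mul_vecMulVec, h0 hik hψ hu]
    simp
    abel
  set g := Matrix.GeneralLinearGroup.mkOfDetNeZero M (by rw [hdet1]; exact one_ne_zero) with hg
  have hgv : (g : Matrix (Fin n) (Fin n) F) = M := rfl
  refine ⟨g, hM g (mem_slGL_iff.mpr hdet1) ⟨1, fun a b hab => ?_⟩, fun x => ?_⟩
  · rw [Equiv.Perm.one_apply]
    by_contra hne
    refine hab ?_
    rw [hgv, hMeq, Matrix.add_apply, Matrix.add_apply, Matrix.one_apply_ne (fun h => hne (by rw [h])),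
      vecMulVec_apply, vecMulVec_apply]
    have hz : ∀ {j : Fin t} {y η : Vs}, InBlock e j y → InBlock e j η → y a * η b = 0 := fun {j y η} hy hη => by
      by_cases h : (e a).1 = j
      · rw [hη b (fun h' => hne (h.trans h'.symm)), mul_zero]
      · rw [hy a h, zero_mul]
    rw [hz hw hψ, hz hu hψ']
    ring
  · rw [hgv, hMeq, add_mulVec, add_mulVec, one_mulVec, vecMulVec_mulVec, vecMulVec_mulVec]
    funext l; simp

/-- Moving the centre inside a block. -/
theorem Pair.move (hM : ContainsBlocks e H) (ht : 2 ≤ t) {v φ u : Vs} (hp : Pair H v φ) {i : Fin t}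
    (hu : InBlock e i u) (hφu : φ ⬝ᵥ u = 0) {a b : Fin n} (ha : (e a).1 = i) (hb : (e b).1 = i)
    (hD : v a * u b - u a * v b ≠ 0) : Pair H u φ := by
  classical
  obtain ⟨k, hk⟩ : ∃ k : Fin t, k ≠ i := by
    obtain ⟨k, -, hk⟩ := Finset.exists_mem_ne (show 1 < (Finset.univ : Finset (Fin t)).card by simp; omega) i
    exact ⟨k, hk⟩
  set D := v a * u b - u a * v b with hDdef
  set ψ : Vs := Pi.single a (u b / D) + Pi.single b (-(u a) / D) with hψdef
  have hψi : InBlock e i ψ := fun l hl => by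
    rw [hψdef, Pi.add_apply, Pi.single_eq_of_ne (fun h => hl (by rw [h]; exact ha)), Pi.single_eq_of_ne (fun h => hl (by rw [h]; exact hb)),
      add_zero]
  have hψu : ψ ⬝ᵥ u = 0 := by rw [hψdef, add_dotProduct, single_dotProduct, single_dotProduct]; ring
  have hψv : ψ ⬝ᵥ v = 1 := by
    rw [hψdef, add_dotProduct, single_dotProduct, single_dotProduct]
    field_simp
    rw [hDdef]; ring
  obtain ⟨g, hg, hgx⟩ := exists_blockElt hM hk.symm hu hψi (u := 0) (ψ' := 0) (fun _ _ => rfl) (fun _ _ => rfl)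
    (by rw [hψu]; simp)
  refine ⟨hφu, fun c => ?_⟩
  have h1 := (hp.2 c).map hg (ψ := φ) (fun x => by
    rw [hgx, dotProduct_add, dotProduct_add, dotProduct_smul, dotProduct_smul, hφu]; simp)
  rw [hgx, dotProduct_smul, hψv, smul_zero, add_zero, smul_eq_mul, mul_one] at h1
  exact (hp.2 c).sub_center h1 (by rw [dotProduct_smul, hp.1, smul_zero]) (by rw [dotProduct_smul, hφu, smul_zero])

/-- A centre inside one block. -/
theorem exists_centre (hM : ContainsBlocks e H) (hm : 2 ≤ m)
    (hex : ¬ (m = 2 ∧ Fintype.card F = 2)) (hex2 : m = 2 → t = 2 → 4 ≤ Fintype.card F) (ht : 2 ≤ t) {v φ : Vs} (hp : Pair H v φ) {a : Fin n} (hva : v a ≠ 0) :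
    ∃ w, InBlock e (e a).1 w ∧ w ≠ 0 ∧ Pair H w φ := by
  classical
  have hnt : n = t * m := by
    have := Fintype.card_congr e
    simpa using this
  set i := (e a).1 with hi
  have hsingle : ∀ (x : F) (l : Fin n), (e l).1 = i → InBlock e i (Pi.single l x) := fun x l hl l' hl' =>
    Pi.single_eq_of_ne (fun h => hl' (by rw [h]; exact hl)) _
  obtain ⟨b, hb, hab⟩ : ∃ b, (e b).1 = i ∧ a ≠ b := by
    obtain ⟨x, -, hx⟩ := Finset.exists_mem_ne (show 1 < (Finset.univ : Finset (Fin m)).card by simp; omega) (e a).2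
    exact ⟨e.symm (i, x), by simp, fun h => hx (by rw [h]; simp)⟩
  by_cases hφ : φ a = 0 ∧ φ b = 0
  · refine ⟨Pi.single b 1, hsingle 1 b hb, single_ne b, hp.move hM ht (hsingle 1 b hb) ?_ rfl hb ?_⟩
    · rw [dotProduct_single, hφ.2, zero_mul]
    · simp [hab, hva]
  by_cases hker : φ a * v a + φ b * v b ≠ 0
  · set u : Vs := Pi.single a (φ b) + Pi.single b (-(φ a)) with hu
    have hui : InBlock e i u := fun l hl => by
      rw [hu, Pi.add_apply, hsingle _ a rfl l hl, hsingle _ b hb l hl, add_zero]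
    have hua : u a = φ b := by simp [hu, hab]
    have hub : u b = -(φ a) := by simp [hu, hab.symm]
    refine ⟨u, hui, fun h => hφ ⟨?_, ?_⟩, hp.move hM ht hui ?_ rfl hb ?_⟩
    · have := congrFun h b; rw [hub] at this; simpa using this
    · have := congrFun h a; rw [hua] at this; simpa using this
    · rw [hu, dotProduct_add, dotProduct_single, dotProduct_single]; ring
    · rw [hua, hub]
      intro h
      exact hker (by linear_combination -h)
  push Not at hker
  by_cases hm3 : 3 ≤ m
  · obtain ⟨c, hc, hca, hcb⟩ : ∃ c, (e c).1 = i ∧ c ≠ a ∧ c ≠ b := by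
      obtain ⟨x, -, hx⟩ := Finset.exists_mem_notMem_of_card_lt_card (s := ({(e a).2, (e b).2} : Finset (Fin m)))
        (t := (Finset.univ : Finset (Fin m))) (by
          have := Finset.card_le_two (a := (e a).2) (b := (e b).2)
          simp only [Finset.card_univ, Fintype.card_fin]; omega)
      simp only [Finset.mem_insert, Finset.mem_singleton, not_or] at hx
      exact ⟨e.symm (i, x), by simp, fun h => hx.1 (by rw [← h]; simp), fun h => hx.2 (by rw [← h]; simp)⟩
    set u : Vs := Pi.single b (φ c) + Pi.single c (-(φ b)) with hu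
    have hui : InBlock e i u := fun l hl => by
      rw [hu, Pi.add_apply, hsingle _ b hb l hl, hsingle _ c hc l hl, add_zero]
    have hua : u a = 0 := by simp [hu, hab, hca.symm]
    have hub : u b = φ c := by simp [hu, hcb.symm]
    have huc : u c = -(φ b) := by simp [hu, hcb]
    have hφb : φ b ≠ 0 := fun h => hφ ⟨by
      rw [h, zero_mul, add_zero] at hker
      exact (mul_eq_zero.mp hker).resolve_right hva, h⟩
    refine ⟨u, hui, fun h => hφb ?_, hp.move hM ht hui ?_ (show (e a).1 = i from rfl) hc ?_⟩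
    · have := congrFun h c; rw [huc] at this; simpa using this
    · rw [hu, dotProduct_add, dotProduct_single, dotProduct_single]; ring
    · rw [hua, huc, zero_mul, sub_zero]
      exact mul_ne_zero hva (neg_ne_zero.mpr hφb)
  -- blocks of size two
  have hm2 : m = 2 := by omega
  obtain ⟨s, hs0, hs1, hs2⟩ : ∃ s : F, s ≠ 0 ∧ s ≠ 1 ∧ (t = 2 → s ≠ -1) := by
    by_cases ht2 : t = 2
    · obtain ⟨s, -, hs⟩ := Finset.exists_mem_notMem_of_card_lt_card (s := ({0, 1, -1} : Finset F))
        (t := (Finset.univ : Finset F)) (by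
          have := Finset.card_le_three (a := (0 : F)) (b := 1) (c := -1)
          have := hex2 hm2 ht2
          rw [Finset.card_univ]; omega)
      simp only [Finset.mem_insert, Finset.mem_singleton, not_or] at hs
      exact ⟨s, hs.1, hs.2.1, fun _ => hs.2.2⟩
    obtain ⟨s, -, hs⟩ := Finset.exists_mem_notMem_of_card_lt_card (s := ({0, 1} : Finset F))
      (t := (Finset.univ : Finset F)) (by
        rw [Finset.card_pair zero_ne_one, Finset.card_univ]
        have := Fintype.one_lt_card (α := F)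
        by_contra hlt
        exact hex ⟨hm2, by omega⟩)
    simp only [Finset.mem_insert, Finset.mem_singleton, not_or] at hs
    exact ⟨s, hs.1, hs.2, fun h => absurd h ht2⟩
  have honly : ∀ l, (e l).1 = i → l = a ∨ l = b := by
    intro l hl
    have h3 : (e l).2 = (e a).2 ∨ (e l).2 = (e b).2 := by
      have hne : (e a).2 ≠ (e b).2 := fun h => hab (e.injective (Prod.ext (hi ▸ hb.symm) h))
      subst hm2
      revert hne
      generalize (e l).2 = x; generalize (e a).2 = y; generalize (e b).2 = z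
      revert x y z
      decide
    rcases h3 with h | h
    · exact Or.inl (e.injective (Prod.ext hl h))
    · exact Or.inr (e.injective (Prod.ext (hl.trans hb.symm) h))
  set vi : Vs := Pi.single a (v a) + Pi.single b (v b) with hvi
  have hvii : InBlock e i vi := fun l hl => by
    rw [hvi, Pi.add_apply, hsingle _ a rfl l hl, hsingle _ b hb l hl, add_zero]
  have hvia : vi a = v a := by simp [hvi, hab]
  have hφvi : φ ⬝ᵥ vi = 0 := by
    rw [hvi, dotProduct_add, dotProduct_single, dotProduct_single]; exact hker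
  -- rescaling the component in the block, compensated elsewhere
  have hscale : ∀ k, k ≠ i → ∃ u l, (InBlock e k u ∧ (e l).1 = k ∧ u l ≠ 0) ∧ ∀ v' : Vs, Pair H v' φ →
      v' a = v a → Pair H ((s - 1) • vi + ((s⁻¹ - 1) / u l * v' l) • u) φ := by
    intro k hk
    obtain ⟨x, y, hxy⟩ : ∃ x y, (e x).1 = k ∧ (e y).1 = k ∧ x ≠ y :=
      ⟨e.symm (k, ⟨0, by omega⟩), e.symm (k, ⟨1, by omega⟩), by simp, by simp, by simp⟩
    obtain ⟨u, l, hu, hl, hul, hφu⟩ : ∃ u l, InBlock e k u ∧ (e l).1 = k ∧ u l ≠ 0 ∧ φ ⬝ᵥ u = 0 := by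
      have hsk : ∀ (z : F) (l : Fin n), (e l).1 = k → InBlock e k (Pi.single l z) := fun z l hl l' hl' =>
        Pi.single_eq_of_ne (fun h => hl' (by rw [h]; exact hl)) _
      by_cases hx : φ x = 0
      · exact ⟨Pi.single x 1, x, hsk 1 x hxy.1, hxy.1, by simp, by rw [dotProduct_single, hx, zero_mul]⟩
      · refine ⟨Pi.single x (φ y) + Pi.single y (-(φ x)), y, fun l hl => ?_, hxy.2.1, ?_, ?_⟩
        · rw [Pi.add_apply, hsk _ x hxy.1 l hl, hsk _ y hxy.2.1 l hl, add_zero]
        · simp [hxy.2.2.symm, hx]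
        · rw [dotProduct_add, dotProduct_single, dotProduct_single]; ring
    obtain ⟨g, hg, hgx⟩ := exists_blockElt hM hk.symm (w := (s - 1) • vi) (ψ := Pi.single a (v a)⁻¹)
      (u := u) (ψ' := Pi.single l ((s⁻¹ - 1) / u l)) (fun z hz => by rw [Pi.smul_apply, hvii z hz, smul_zero])
      (hsingle _ a rfl) hu (fun z hz => Pi.single_eq_of_ne (fun h => hz (by rw [h]; exact hl)) _) (by
        rw [single_dotProduct, single_dotProduct, Pi.smul_apply, hvia, div_mul_cancel₀ _ hul, smul_eq_mul]
        field_simp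
        ring)
    refine ⟨u, l, ⟨hu, hl, hul⟩, fun v' hp' hv'a => ⟨?_, fun c => ?_⟩⟩
    · rw [dotProduct_add, dotProduct_smul, dotProduct_smul, hφvi, hφu, smul_zero, smul_zero, add_zero]
    · have h1 := (hp'.2 c).map hg (ψ := φ) (fun z => by
        rw [hgx, dotProduct_add, dotProduct_add, dotProduct_smul, dotProduct_smul, dotProduct_smul, hφvi, hφu]
        simp)
      refine ((hp'.2 c).sub_center (w := c • ((s - 1) • vi + ((s⁻¹ - 1) / u l * v' l) • u)) ?_ (by rw [dotProduct_smul, hp'.1, smul_zero]) ?_)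
      · convert h1 using 1
        rw [hgx, single_dotProduct, single_dotProduct, Pi.smul_apply, Pi.smul_apply, hv'a, smul_eq_mul, smul_eq_mul]
        match_scalars <;> field_simp
      · rw [dotProduct_smul, dotProduct_add, dotProduct_smul, dotProduct_smul, hφvi, hφu]
        simp
  have hs1' : s - 1 ≠ 0 := sub_ne_zero.mpr hs1
  obtain ⟨k, -, hk⟩ := Finset.exists_mem_ne (show 1 < (Finset.univ : Finset (Fin t)).card by simp; omega) i
  have hdone : ∀ w, Pair H w φ → w = (s - 1) • vi → ∃ w, InBlock e i w ∧ w ≠ 0 ∧ Pair H w φ := by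
    rintro _ hw rfl
    refine ⟨(s - 1) • vi, fun l hl => by rw [Pi.smul_apply, hvii l hl, smul_zero], fun h => ?_, hw⟩
    have := congrFun h a
    rw [Pi.smul_apply, hvia, Pi.zero_apply, smul_eq_mul] at this
    exact mul_ne_zero hs1' hva this
  obtain ⟨u, l, hu, hw⟩ := hscale k hk
  have hw₁ := hw v hp rfl
  set γ := (s⁻¹ - 1) / u l * v l with hγ
  set v'' := (s - 1)⁻¹ • ((s - 1) • vi + γ • u) with hv''
  have hv''p : Pair H v'' φ := hw₁.smul _
  have hv''a : v'' a = v a := by
    rw [hv'', Pi.smul_apply, Pi.add_apply, Pi.smul_apply, Pi.smul_apply, hu.1 a (fun h => hk h.symm), hvia,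
      smul_zero, add_zero, smul_smul, inv_mul_cancel₀ hs1', one_smul]
  by_cases ht2 : t = 2
  · have hul := hu.2.2
    have hw₂ := hw v'' hv''p hv''a
    have hv''l : v'' l = (s - 1)⁻¹ * (γ * u l) := by
      rw [hv'', Pi.smul_apply, Pi.add_apply, Pi.smul_apply, Pi.smul_apply, hvii l (hu.2.1 ▸ hk)]
      simp
    -- the two pairs `(s - 1) vi + γ u` and `(s - 1) vi - s⁻¹ γ u` span the component in the block
    have hsum : Pair H ((1 + s)⁻¹ • ((s - 1) • vi + γ • u) - (-(s / (1 + s))) • ((s - 1) • vi + ((s⁻¹ - 1) / u l * v'' l) • u)) φ := by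
      have hp1 := hw₁.smul (1 + s)⁻¹
      have hp2 := hw₂.smul (-(s / (1 + s)))
      refine ⟨by rw [dotProduct_sub, hp1.1, hp2.1, sub_zero], fun c => ?_⟩
      refine (hp2.2 c).sub_center (w := c • _) ?_ (by rw [dotProduct_smul, hp2.1, smul_zero])
        (by rw [dotProduct_smul, dotProduct_sub, hp1.1, hp2.1, sub_zero, smul_zero])
      have := hp1.2 c
      convert this using 1
      module
    refine hdone _ hsum ?_
    have h1s : (1 : F) + s ≠ 0 := fun h => hs2 ht2 (eq_neg_of_add_eq_zero_right h)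
    rw [hv''l]
    match_scalars <;> field_simp <;> ring
  obtain ⟨k', -, hk'⟩ := Finset.exists_mem_notMem_of_card_lt_card (s := ({i, k} : Finset (Fin t)))
      (t := (Finset.univ : Finset (Fin t))) (by
        have := Finset.card_le_two (a := i) (b := k)
        simp only [Finset.card_univ, Fintype.card_fin]
        omega)
  simp only [Finset.mem_insert, Finset.mem_singleton, not_or] at hk'
  obtain ⟨u', l', hu', hw'⟩ := hscale k' hk'.1
  have hw₃ := hw' v'' hv''p hv''a
  refine hdone _ hw₃ ?_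
  have : v'' l' = 0 := by
    rw [hv'', Pi.smul_apply, Pi.add_apply, Pi.smul_apply, Pi.smul_apply, hvii l' (hu'.2.1 ▸ hk'.1),
      hu.1 l' (hu'.2.1 ▸ hk'.2)]
    simp
  rw [this, mul_zero, zero_smul, add_zero]

end Cfsg.Agent.Lib.LinearFrame
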