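import Cfsg.Agent.Lib.LinearFrame.Blocks

/-!
Overgroups of a block stabiliser in the special linear group with an element not permuting the blocks.
-/

set_option autoImplicit false
set_option linter.unusedSectionVars false

namespace Cfsg.Agent.Lib.LinearFrame

open Matrix Cfsg.Agent.Lib.FormMax

variable {F : Type*} [Field F] [Fintype F] {n t m : ℕ}

local notation "Vs" => (Fin n → F)
local notation "G" => GL (Fin n) F

variable {e : Fin n ≃ Fin t × Fin m} {H : Subgroup (GL (Fin n) F)}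

theorem inBlock_single {i : Fin t} {l : Fin n} (hl : (e l).1 = i) (x : F) :
    InBlock e i (Pi.single l x) := fun l' hl' => Pi.single_eq_of_ne (fun h => hl' (by rw [h]; exact hl)) _

theorem inBlock_dot {i k : Fin t} (hik : i ≠ k) {a b : Vs} (ha : InBlock e i a) (hb : InBlock e k b) :
    a ⬝ᵥ b = 0 := by
  refine Finset.sum_eq_zero fun l _ => ?_
  by_cases h : (e l).1 = i
  · rw [hb l (by rw [h]; exact hik), mul_zero]
  · rw [ha l h, zero_mul]

/-- A cross transvection spreads over the block. -/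
theorem Pair.spread (hM : ContainsBlocks e H) (ht : 2 ≤ t) {w ψ : Vs} {i j : Fin t} (hij : i ≠ j)
    (hw : InBlock e i w) (hw0 : w ≠ 0) (hψ : InBlock e j ψ) (hp : Pair H w ψ) {a : Fin n}
    (ha : (e a).1 = i) : Pair H (Pi.single a 1) ψ := by
  by_cases h : ∃ b, (e b).1 = i ∧ b ≠ a ∧ w b ≠ 0
  · obtain ⟨b, hb, hba, hwb⟩ := h
    refine hp.move hM ht (inBlock_single ha 1) ?_ hb ha ?_
    · exact inBlock_dot hij.symm hψ (inBlock_single ha 1)
    · simpa [hba] using hwb
  · push Not at h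
    have hwa : w = w a • (Pi.single a 1 : Vs) := funext fun l => by
      rcases eq_or_ne l a with rfl | hla
      · simp
      rw [Pi.smul_apply, Pi.single_eq_of_ne hla, smul_zero]
      by_cases hl : (e l).1 = i
      · exact h l hl hla
      · exact hw l hl
    have hwa0 : w a ≠ 0 := fun h' => hw0 (by rw [hwa, h', zero_smul])
    have h1 := hp.smul (w a)⁻¹
    rw [hwa] at h1
    simpa [smul_smul, inv_mul_cancel₀ hwa0] using h1

/-- An element not permuting the blocks forces everything. -/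
theorem eq_slGL_of_not_block (hn : 3 ≤ n) (hm : 2 ≤ m) (hex : ¬ (m = 2 ∧ Fintype.card F = 2))
    (hex2 : m = 2 → t = 2 → 4 ≤ Fintype.card F) (ht : 2 ≤ t)
    (hH : H ≤ slGL n F) (hM : ContainsBlocks e H) {g : G} (hg : g ∈ H) (hgb : ¬ BlockMono e g) :
    H = slGL n F := by
  classical
  set row : Fin n → Vs := fun b l => ((g⁻¹ : G) : Matrix (Fin n) (Fin n) F) b l with hrow
  have hrowg : ∀ b (x : Vs), row b ⬝ᵥ ((g : Matrix (Fin n) (Fin n) F) *ᵥ x) = x b := fun b x =>
    congrFun (inv_mulVec_mulVec g x) b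
  -- the conjugates of the transvections inside a block
  have hconj : ∀ a b, (e a).1 = (e b).1 → a ≠ b →
      Pair H ((g : Matrix (Fin n) (Fin n) F) *ᵥ Pi.single a 1) (row b) := by
    intro a b hab hne
    refine ⟨by rw [hrowg, Pi.single_eq_of_ne hne.symm], fun c => ?_⟩
    obtain ⟨k, -, hk⟩ := Finset.exists_mem_ne (show 1 < (Finset.univ : Finset (Fin t)).card by simp; omega) (e a).1
    obtain ⟨y, hy, hyx⟩ := exists_blockElt hM hk.symm (w := Pi.single a c) (ψ := Pi.single b 1) (u := 0) (ψ' := 0)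
      (inBlock_single rfl c) (inBlock_single hab.symm 1) (fun _ _ => rfl) (fun _ _ => rfl)
      (by rw [single_dotProduct, Pi.single_eq_of_ne hne.symm]; simp)
    have h1 : TrIn H (c • Pi.single a 1) (Pi.single b 1) := ⟨y, hy, fun x => by
      rw [hyx]; funext l; simp [Pi.single_apply]⟩
    have h2 := h1.map hg (ψ := row b) (fun x => by rw [hrowg, single_dotProduct, one_mul])
    rwa [mulVec_smul] at h2
  -- one of them crosses
  obtain ⟨v, φ, hp, x, y, hxy, hvx, hφy⟩ : ∃ v φ, Pair H v φ ∧ ∃ x y, (e x).1 ≠ (e y).1 ∧ v x ≠ 0 ∧ φ y ≠ 0 := by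
    by_contra hno
    push Not at hno
    have hsame : ∀ a b, (e a).1 = (e b).1 → a ≠ b → ∀ x y, ((g : Matrix (Fin n) (Fin n) F) *ᵥ Pi.single a 1) x ≠ 0 →
        row b y ≠ 0 → (e x).1 = (e y).1 := fun a b hab hne x y hx hy => by
      by_contra h
      exact hy (hno _ _ (hconj a b hab hne) x y h hx)
    have hsupp : ∀ b, ∃ i, ∀ a, (e a).1 = (e b).1 → ∀ x,
        ((g : Matrix (Fin n) (Fin n) F) *ᵥ Pi.single a 1) x ≠ 0 → (e x).1 = i := by
      intro b
      obtain ⟨a₀, ha₀, hne₀⟩ : ∃ a₀, (e a₀).1 = (e b).1 ∧ a₀ ≠ b := by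
        obtain ⟨z, -, hz⟩ := Finset.exists_mem_ne (show 1 < (Finset.univ : Finset (Fin m)).card by simp; omega) (e b).2
        exact ⟨e.symm ((e b).1, z), by simp, fun h => hz (by rw [← h]; simp)⟩
      obtain ⟨y, hy, hy'⟩ : ∃ y, row b y ≠ 0 ∧ ((g : Matrix (Fin n) (Fin n) F) *ᵥ Pi.single b 1) y ≠ 0 := by
        by_contra hall
        push Not at hall
        have h1 := hrowg b (Pi.single b 1)
        rw [Pi.single_eq_same, dotProduct, Finset.sum_eq_zero fun y _ => ?_] at h1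
        · exact zero_ne_one h1
        · by_cases hy : row b y = 0
          · rw [hy, zero_mul]
          · rw [hall y hy, mul_zero]
      obtain ⟨y₀, hy₀, hy₀'⟩ : ∃ y, row a₀ y ≠ 0 ∧ ((g : Matrix (Fin n) (Fin n) F) *ᵥ Pi.single a₀ 1) y ≠ 0 := by
        by_contra hall
        push Not at hall
        have h1 := hrowg a₀ (Pi.single a₀ 1)
        rw [Pi.single_eq_same, dotProduct, Finset.sum_eq_zero fun y _ => ?_] at h1
        · exact zero_ne_one h1
        · by_cases hy : row a₀ y = 0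
          · rw [hy, zero_mul]
          · rw [hall y hy, mul_zero]
      refine ⟨(e y).1, fun a ha x hx => ?_⟩
      rcases eq_or_ne a b with rfl | hab
      · rw [hsame a a₀ ha₀.symm hne₀.symm x y₀ hx hy₀]
        exact hsame a₀ a ha₀ hne₀ y₀ y hy₀' hy
      · exact hsame a b ha hab x y hx hy
    choose f hf using hsupp
    let σ₀ : Fin t → Fin t := fun i => f (e.symm (i, ⟨0, by omega⟩))
    have hσ₀ : ∀ a x, ((g : Matrix (Fin n) (Fin n) F) *ᵥ Pi.single a 1) x ≠ 0 → (e x).1 = σ₀ (e a).1 :=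
      fun a x hx => hf _ a (by simp) x hx
    have hsurj : Function.Surjective σ₀ := fun i => by
      obtain ⟨l, hl⟩ := exists_col_ne g (e.symm (i, ⟨0, by omega⟩))
      exact ⟨(e l).1, by rw [← hσ₀ l _ hl]; simp⟩
    refine hgb ⟨Equiv.ofBijective σ₀ ⟨Finite.injective_iff_surjective.mpr hsurj, hsurj⟩, fun a b hab => ?_⟩
    exact hσ₀ b a (by simpa using hab)
  obtain ⟨w, hw, hw0, hwp⟩ := exists_centre hM hm hex hex2 ht hp hvx
  obtain ⟨ψ, hψ, hψ0, hψp⟩ := exists_centre hM.dual hm hex hex2 ht hwp.dual hφy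
  have hcross : Pair H w ψ := by
    have h1 := hψp.dual
    rw [dual_dual] at h1
    exact h1.neg_neg
  -- a cross elementary pair
  obtain ⟨a₀, b₀, hab₀, h₀⟩ : ∃ a₀ b₀, (e a₀).1 ≠ (e b₀).1 ∧ Pair H (Pi.single a₀ 1) (Pi.single b₀ 1) := by
    have h1 := hcross.spread hM ht hxy hw hw0 hψ (a := x) rfl
    have h2 := h1.dual.spread hM.dual ht hxy.symm hψ hψ0 (w := ψ) (i := (e y).1) (j := (e x).1)
      (fun l hl => by rw [Pi.neg_apply, inBlock_single rfl 1 l hl, neg_zero]) (a := y) rfl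
    have h3 := h2.dual
    rw [dual_dual] at h3
    exact ⟨x, y, hxy, h3.neg_neg⟩
  refine eq_slGL_of_elem hH fun a b hab c => ?_
  by_cases hblk : (e a).1 = (e b).1
  · obtain ⟨k, -, hk⟩ := Finset.exists_mem_ne (show 1 < (Finset.univ : Finset (Fin t)).card by simp; omega) (e a).1
    obtain ⟨z, hz, hzx⟩ := exists_blockElt hM hk.symm (w := Pi.single a c) (ψ := Pi.single b 1) (u := 0) (ψ' := 0)
      (inBlock_single rfl c) (inBlock_single hblk.symm 1) (fun _ _ => rfl) (fun _ _ => rfl)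
      (by rw [single_dotProduct, Pi.single_eq_of_ne hab.symm]; simp)
    exact ⟨z, hz, fun x => by rw [hzx]; simp⟩
  -- transport by a permutation respecting the blocks
  obtain ⟨σ, hσa, hσb⟩ : ∃ σ : Equiv.Perm (Fin t), σ (e a).1 = (e a₀).1 ∧ σ (e b).1 = (e b₀).1 := by
    refine ⟨(Equiv.swap (e a).1 (e a₀).1).trans (Equiv.swap (Equiv.swap (e a).1 (e a₀).1 (e b).1) (e b₀).1), ?_, ?_⟩
    · rw [Equiv.trans_apply, Equiv.swap_apply_left, Equiv.swap_apply_of_ne_of_ne ?_ hab₀]
      intro h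
      exact hblk ((Equiv.swap (e a).1 (e a₀).1).injective (by rw [Equiv.swap_apply_left]; exact h))
    · rw [Equiv.trans_apply, Equiv.swap_apply_left]
  set π₀ : Equiv.Perm (Fin n) := e.trans ((Equiv.prodCongr σ (Equiv.refl _)).trans e.symm) with hπ₀
  have hπ₀e : ∀ l, (e (π₀ l)).1 = σ (e l).1 := fun l => by simp [hπ₀]
  set π : Equiv.Perm (Fin n) := Equiv.swap a₀ (π₀ a) * Equiv.swap b₀ (π₀ b) * π₀ with hπ
  have hxa : (e (π₀ a)).1 = (e a₀).1 := by rw [hπ₀e, hσa]
  have hxb : (e (π₀ b)).1 = (e b₀).1 := by rw [hπ₀e, hσb]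
  have hne1 : π₀ a ≠ b₀ := fun h => hab₀ (by rw [← hxa, h])
  have hne2 : π₀ a ≠ π₀ b := fun h => hab₀ (by rw [← hxa, h, hxb])
  have hne3 : b₀ ≠ a₀ := fun h => hab₀ (by rw [h])
  have hne4 : b₀ ≠ π₀ a := hne1.symm
  have hπa : π a = a₀ := by
    simp only [hπ, Equiv.Perm.mul_apply]
    rw [Equiv.swap_apply_of_ne_of_ne hne1 hne2, Equiv.swap_apply_right]
  have hπb : π b = b₀ := by
    simp only [hπ, Equiv.Perm.mul_apply]
    rw [Equiv.swap_apply_right, Equiv.swap_apply_of_ne_of_ne hne3 hne4]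
  have hswap : ∀ (p r : Fin n), (e p).1 = (e r).1 → ∀ l, (e (Equiv.swap p r l)).1 = (e l).1 := fun p r hpr l => by
    rcases eq_or_ne l p with rfl | hlp
    · rw [Equiv.swap_apply_left, hpr]
    rcases eq_or_ne l r with rfl | hlr
    · rw [Equiv.swap_apply_right, hpr]
    · rw [Equiv.swap_apply_of_ne_of_ne hlp hlr]
  have hπe : ∀ l, (e (π l)).1 = σ (e l).1 := fun l => by
    rw [hπ, Equiv.Perm.mul_apply, Equiv.Perm.mul_apply, hswap _ _ hxa.symm, hswap _ _ hxb.symm, hπ₀e]
  obtain ⟨o, -, ho⟩ := Finset.exists_mem_notMem_of_card_lt_card (s := ({a, b} : Finset (Fin n)))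
    (t := (Finset.univ : Finset (Fin n))) (by
      have := Finset.card_le_two (a := a) (b := b)
      simp only [Finset.card_univ, Fintype.card_fin]; omega)
  simp only [Finset.mem_insert, Finset.mem_singleton, not_or] at ho
  obtain ⟨p, hp, -, hpx, hpo, hps⟩ := exists_phased π o (fun _ => (1 : F)) (fun _ _ => one_ne_zero)
  have hpH : p ∈ H := hM p hp ⟨σ⁻¹, fun r l hrl => by rw [← hps r l hrl, hπe]; simp⟩
  have h1 := (h₀.2 c).map hpH (ψ := Pi.single b 1) (fun z => by
    rw [single_dotProduct, single_dotProduct, hpx _ _ (Ne.symm ho.2), hπb, one_mul])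
  convert h1 using 1
  rw [mulVec_smul]
  funext l
  rcases eq_or_ne l o with rfl | hlo
  · rw [Pi.smul_apply, hpo, Pi.single_eq_of_ne ho.1, Pi.single_eq_of_ne (fun h => ho.1 (π.injective (h.trans hπa.symm)))]
    simp
  · rw [Pi.smul_apply, hpx _ _ hlo, one_mul]
    rcases eq_or_ne l a with rfl | hla
    · rw [hπa]; simp
    · rw [Pi.single_eq_of_ne hla, Pi.single_eq_of_ne (fun h => hla (π.injective (h.trans hπa.symm))), smul_zero]

end Cfsg.Agent.Lib.LinearFrame
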