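import Cfsg.Agent.Lib.LinearFrame.Basic

/-!
Elementary transvections and overgroups of the monomial subgroup of the special linear group.
-/

set_option autoImplicit false
set_option linter.unusedSectionVars false

namespace Cfsg.Agent.Lib.LinearFrame

open Matrix Cfsg.Agent.Lib.FormMax

variable {F : Type*} [Field F] [Fintype F] {n : ℕ}

local notation "Vs" => (Fin n → F)
local notation "G" => GL (Fin n) F

/-- `H` contains the monomial elements of the special linear group. -/
def ContainsMono (H : Subgroup G) : Prop := ∀ g ∈ slGL n F, IsMono g → g ∈ H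

variable {H : Subgroup (GL (Fin n) F)}

theorem ContainsMono.dual (hM : ContainsMono H) : ContainsMono (LinearFrame.dual H) :=
  fun g hg hm => mem_dual.mpr (hM _ (dualHom_mem_slGL hg) hm.dualHom)

theorem exists_ne_pm_one (hq : 5 ≤ Fintype.card F) : ∃ s : F, s ≠ 0 ∧ s ≠ 1 ∧ s ≠ -1 := by
  classical
  obtain ⟨s, -, hs⟩ := Finset.exists_mem_notMem_of_card_lt_card (s := ({0, 1, -1} : Finset F))
    (t := (Finset.univ : Finset F)) (by
      have := Finset.card_le_three (a := (0 : F)) (b := 1) (c := -1)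
      rw [Finset.card_univ]; omega)
  simp only [Finset.mem_insert, Finset.mem_singleton, not_or] at hs
  exact ⟨s, hs.1, hs.2.1, hs.2.2⟩

theorem exists_outside (hn : 4 ≤ n) (s : Finset (Fin n)) (hs : s.card ≤ 3) : ∃ p, p ∉ s := by
  obtain ⟨p, -, hp⟩ := Finset.exists_mem_notMem_of_card_lt_card (s := s) (t := (Finset.univ : Finset (Fin n)))
    (by rw [Finset.card_univ, Fintype.card_fin]; omega)
  exact ⟨p, hp⟩

/-- One elementary element gives everything. -/
theorem eq_slGL_of_one (hn : 4 ≤ n) (hH : H ≤ slGL n F) (hM : ContainsMono H) {a₀ b₀ : Fin n} (hab₀ : a₀ ≠ b₀)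
    {c₀ : F} (hc₀ : c₀ ≠ 0) (h : TrIn H (Pi.single a₀ c₀) (Pi.single b₀ 1)) : H = slGL n F := by
  classical
  refine eq_slGL_of_elem hH fun a b hab c => ?_
  rcases eq_or_ne c 0 with rfl | hc
  · exact (TrIn.zero_axis (H := H) (0 : Vs)).congr fun x => by simp
  obtain ⟨π, hπa, hπb⟩ : ∃ π : Equiv.Perm (Fin n), π a = a₀ ∧ π b = b₀ := by
    refine ⟨(Equiv.swap a a₀).trans (Equiv.swap (Equiv.swap a a₀ b) b₀), ?_, ?_⟩
    · rw [Equiv.trans_apply, Equiv.swap_apply_left, Equiv.swap_apply_of_ne_of_ne ?_ hab₀]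
      intro h'
      exact hab ((Equiv.swap a a₀).injective (by rw [Equiv.swap_apply_left]; exact h'))
    · rw [Equiv.trans_apply, Equiv.swap_apply_left]
  obtain ⟨o, ho⟩ := exists_outside hn {a, b} (Finset.card_le_two.trans (by norm_num))
  simp only [Finset.mem_insert, Finset.mem_singleton, not_or] at ho
  obtain ⟨p, hp, hpm, hpx, hpo, -⟩ := exists_phased π o (fun l => if l = a then c / c₀ else 1)
    (fun l _ => by split_ifs <;> simp [div_ne_zero hc hc₀])
  have h1 := h.map (hM p hp hpm) (ψ := Pi.single b 1) (fun z => by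
    rw [single_dotProduct, single_dotProduct, hpx _ _ (Ne.symm ho.2), hπb, if_neg hab.symm, one_mul])
  convert h1 using 1
  funext l
  rcases eq_or_ne l o with rfl | hlo
  · rw [hpo, Pi.single_eq_of_ne ho.1, Pi.single_eq_of_ne (fun h' => ho.1 (π.injective (h'.trans hπa.symm))), mul_zero]
  · rw [hpx _ _ hlo]
    rcases eq_or_ne l a with rfl | hla
    · rw [if_pos rfl, hπa, Pi.single_eq_same, Pi.single_eq_same, div_mul_cancel₀ _ hc₀]
    · rw [if_neg hla, Pi.single_eq_of_ne hla,
        Pi.single_eq_of_ne (fun h' => hla (π.injective (h'.trans hπa.symm))), mul_zero]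

/-- A transvection with coordinate centre gives everything. -/
theorem eq_slGL_of_centre (hn : 4 ≤ n) (hq : 5 ≤ Fintype.card F) (hH : H ≤ slGL n F) (hM : ContainsMono H)
    {m : Fin n} {ρ : Vs} (h : TrIn H (Pi.single m 1) ρ) (hm : ρ m = 0) (hρ : ρ ≠ 0) : H = slGL n F := by
  classical
  obtain ⟨s, hs0, hs1, -⟩ := exists_ne_pm_one hq
  have hs1' : s⁻¹ - 1 ≠ 0 := sub_ne_zero.mpr fun e => hs1 (by rw [← inv_inv s, e, inv_one])
  have hstep : ∀ (ρ : Vs), TrIn H (Pi.single m 1) ρ → ρ m = 0 → ∀ k l, k ≠ l → k ≠ m → l ≠ m →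
      TrIn H (Pi.single m 1) (Pi.single k (ρ k * (s⁻¹ - 1)) + Pi.single l (ρ l * (s - 1))) := by
    intro ρ hρ' hρm k l hkl hkm hlm
    obtain ⟨g, hg, hgm, hgk, hgl, hgo, -⟩ := exists_torus hkl hs0
    set δ : Vs := Pi.single k (ρ k * (s⁻¹ - 1)) + Pi.single l (ρ l * (s - 1)) with hδ
    have h1 := hρ'.map (hM g hg hgm) (ψ := ρ + δ) (fun x => by
      rw [hδ]
      refine Finset.sum_congr rfl fun b _ => ?_
      rcases eq_or_ne b k with rfl | hb
      · rw [hgk]; simp [hkl]; field_simp; ring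
      rcases eq_or_ne b l with rfl | hb'
      · rw [hgl]; simp [hb]; field_simp; ring
      · rw [hgo _ b hb hb']; simp [hb, hb'])
    have hgem : (g : Matrix (Fin n) (Fin n) F) *ᵥ Pi.single m 1 = Pi.single m 1 := by
      funext b
      rcases eq_or_ne b k with rfl | hb
      · rw [hgk]; simp [hkm]
      rcases eq_or_ne b l with rfl | hb'
      · rw [hgl]; simp [hlm]
      · exact hgo _ b hb hb'
    rw [hgem] at h1
    refine hρ'.sub_axis h1 (by rw [dotProduct_single, hρm, zero_mul]) ?_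
    rw [hδ, dotProduct_single, Pi.add_apply, Pi.single_eq_of_ne hkm.symm, Pi.single_eq_of_ne hlm.symm]
    simp
  obtain ⟨k, hk⟩ := Function.ne_iff.mp hρ
  have hkm : k ≠ m := fun e => hk (e ▸ hm)
  obtain ⟨l, hl⟩ := exists_outside hn {k, m} (Finset.card_le_two.trans (by norm_num))
  obtain ⟨p, hp⟩ := exists_outside hn {k, l, m} (Finset.card_le_three.trans (by norm_num))
  simp only [Finset.mem_insert, Finset.mem_singleton, not_or] at hl hp
  have h1 := hstep ρ h hm k l (Ne.symm hl.1) hkm hl.2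
  have h2 := hstep _ h1 (by simp [hkm.symm, Ne.symm hl.2]) k p (Ne.symm hp.1) hkm hp.2.2
  refine eq_slGL_of_one hn hH hM hkm.symm (c₀ := ρ k * (s⁻¹ - 1) * (s⁻¹ - 1))
    (mul_ne_zero (mul_ne_zero hk hs1') hs1') (h2.congr fun x => ?_)
  funext b
  simp [add_dotProduct, single_dotProduct, Ne.symm hl.1, hp.1, hp.2.1]
  rcases eq_or_ne b m with rfl | hb
  · simp; ring
  · simp [hb]

/-- A transvection with coordinate axis gives everything. -/
theorem eq_slGL_of_axis (hn : 4 ≤ n) (hq : 5 ≤ Fintype.card F) (hH : H ≤ slGL n F) (hM : ContainsMono H)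
    {a : Fin n} {v : Vs} (h : TrIn H v (Pi.single a 1)) (ha : v a = 0) (hv : v ≠ 0) : H = slGL n F :=
  eq_of_dual_eq (eq_slGL_of_centre hn hq (dual_le hH) hM.dual
    (h.dual (by rw [single_dotProduct, ha, mul_zero])) (by simp [ha]) (neg_ne_zero.mpr hv))

end Cfsg.Agent.Lib.LinearFrame
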