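import Cfsg.Agent.Lib.LinearFrame.Elem

/-!
Overgroups of the monomial subgroup of the special linear group with an element fixing a coordinate line:
calculations modulo that line.
-/

set_option autoImplicit false
set_option linter.unusedSectionVars false

namespace Cfsg.Agent.Lib.LinearFrame

open Matrix Cfsg.Agent.Lib.FormMax

variable {F : Type*} [Field F] [Fintype F] {n : ℕ}

local notation "Vs" => (Fin n → F)
local notation "G" => GL (Fin n) F

/-- An element of `H` fixing the line of `e_m`, and `x ↦ x + (φ ⬝ x) w` modulo it. -/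
def ModIn (H : Subgroup G) (m : Fin n) (w φ : Vs) (c : F) : Prop :=
  φ m = 0 ∧ ∃ h ∈ H, (h : Matrix (Fin n) (Fin n) F) *ᵥ Pi.single m 1 = c • Pi.single m 1 ∧
    ∀ (x : Vs) (l : Fin n), l ≠ m → ((h : Matrix (Fin n) (Fin n) F) *ᵥ x) l = x l + (φ ⬝ᵥ x) * w l

variable {H : Subgroup (GL (Fin n) F)} {m : Fin n}

theorem ModIn.congr {w φ w' φ' : Vs} {c : F} (h : ModIn H m w φ c) (h0 : φ' m = 0)
    (e : ∀ (x : Vs) (l : Fin n), l ≠ m → (φ ⬝ᵥ x) * w l = (φ' ⬝ᵥ x) * w' l) : ModIn H m w' φ' c := by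
  obtain ⟨-, g, hg, hgm, hgx⟩ := h
  exact ⟨h0, g, hg, hgm, fun x l hl => by rw [hgx x l hl, e x l hl]⟩

theorem ModIn.map {w φ ψ w' : Vs} {c d : F} (h : ModIn H m w φ c) {g : G} (hg : g ∈ H)
    (hgm : (g : Matrix (Fin n) (Fin n) F) *ᵥ Pi.single m 1 = d • Pi.single m 1)
    (hψ : ∀ x : Vs, ψ ⬝ᵥ ((g : Matrix (Fin n) (Fin n) F) *ᵥ x) = φ ⬝ᵥ x)
    (hw : ∀ l, l ≠ m → ((g : Matrix (Fin n) (Fin n) F) *ᵥ w) l = w' l) : ModIn H m w' ψ c := by
  obtain ⟨h0, t, ht, htm, htx⟩ := h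
  have hd : d ≠ 0 := fun e => single_ne (F := F) m (by
    rw [← inv_mulVec_mulVec g (Pi.single m 1), hgm, e, zero_smul, mulVec_zero])
  have hginv : ((g⁻¹ : G) : Matrix (Fin n) (Fin n) F) *ᵥ Pi.single m 1 = d⁻¹ • Pi.single m 1 := by
    apply mulVec_inj g
    rw [mulVec_inv_mulVec, mulVec_smul, hgm, inv_smul_smul₀ hd]
  refine ⟨?_, g * t * g⁻¹, H.mul_mem (H.mul_mem hg ht) (H.inv_mem hg), ?_, fun x l hl => ?_⟩
  · have h1 := hψ (Pi.single m 1)
    rw [hgm, dotProduct_smul, dotProduct_single, dotProduct_single, h0, zero_mul, mul_one, smul_eq_mul] at h1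
    exact (mul_eq_zero.mp h1).resolve_left hd
  · rw [Units.val_mul, Units.val_mul, ← mulVec_mulVec, ← mulVec_mulVec, hginv, mulVec_smul, htm, smul_smul,
      mulVec_smul, hgm, smul_smul, mul_right_comm, inv_mul_cancel₀ hd, one_mul]
  · rw [Units.val_mul, Units.val_mul, ← mulVec_mulVec, ← mulVec_mulVec]
    set y := ((g⁻¹ : G) : Matrix (Fin n) (Fin n) F) *ᵥ x with hy
    have hxy : x = (g : Matrix (Fin n) (Fin n) F) *ᵥ y := (mulVec_inv_mulVec g x).symm
    set η := ((t : Matrix (Fin n) (Fin n) F) *ᵥ y) m - y m - (φ ⬝ᵥ y) * w m with hη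
    have ht' : (t : Matrix (Fin n) (Fin n) F) *ᵥ y = y + (φ ⬝ᵥ y) • w + η • Pi.single m 1 := by
      funext b
      rcases eq_or_ne b m with rfl | hb
      · simp [hη]
      · simp [htx y b hb, hb]
    rw [ht', mulVec_add, mulVec_add, mulVec_smul, mulVec_smul, hgm, ← hxy, Pi.add_apply, Pi.add_apply,
      Pi.smul_apply, Pi.smul_apply, Pi.smul_apply, Pi.single_eq_of_ne hl, hw l hl, smul_zero, smul_zero, add_zero,
      hxy, hψ, smul_eq_mul]

theorem ModIn.sameAxis {w₁ w₂ φ : Vs} {c₁ c₂ : F} (h₁ : ModIn H m w₁ φ c₁) (h₂ : ModIn H m w₂ φ c₂) :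
    ModIn H m (w₂ + (1 + φ ⬝ᵥ w₂) • w₁) φ (c₂ * c₁) := by
  classical
  obtain ⟨h0, g₁, hg₁, hg₁m, hg₁x⟩ := h₁
  obtain ⟨-, g₂, hg₂, hg₂m, hg₂x⟩ := h₂
  refine ⟨h0, g₁ * g₂, H.mul_mem hg₁ hg₂, ?_, fun x l hl => ?_⟩
  · rw [Units.val_mul, ← mulVec_mulVec, hg₂m, mulVec_smul, hg₁m, smul_smul]
  · rw [Units.val_mul, ← mulVec_mulVec, hg₁x _ l hl, hg₂x x l hl]
    have e : φ ⬝ᵥ ((g₂ : Matrix (Fin n) (Fin n) F) *ᵥ x) = φ ⬝ᵥ x + (φ ⬝ᵥ x) * (φ ⬝ᵥ w₂) := by
      simp only [dotProduct, Finset.mul_sum, ← Finset.sum_add_distrib]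
      refine Finset.sum_congr rfl fun b _ => ?_
      rcases eq_or_ne b m with rfl | hb
      · rw [h0]; ring
      · rw [hg₂x x b hb]
        simp only [dotProduct]
        ring
    rw [e, Pi.add_apply, Pi.smul_apply, smul_eq_mul]
    ring

theorem ModIn.sameCentre {w φ₁ φ₂ : Vs} {c₁ c₂ : F} (h₁ : ModIn H m w φ₁ c₁) (h₂ : ModIn H m w φ₂ c₂) :
    ModIn H m w (φ₁ + (1 + φ₁ ⬝ᵥ w) • φ₂) (c₂ * c₁) := by
  classical
  obtain ⟨h0, g₁, hg₁, hg₁m, hg₁x⟩ := h₁
  obtain ⟨h0', g₂, hg₂, hg₂m, hg₂x⟩ := h₂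
  refine ⟨by simp [h0, h0'], g₁ * g₂, H.mul_mem hg₁ hg₂, ?_, fun x l hl => ?_⟩
  · rw [Units.val_mul, ← mulVec_mulVec, hg₂m, mulVec_smul, hg₁m, smul_smul]
  · rw [Units.val_mul, ← mulVec_mulVec, hg₁x _ l hl, hg₂x x l hl]
    have e : φ₁ ⬝ᵥ ((g₂ : Matrix (Fin n) (Fin n) F) *ᵥ x) = φ₁ ⬝ᵥ x + (φ₂ ⬝ᵥ x) * (φ₁ ⬝ᵥ w) := by
      simp only [dotProduct, Finset.mul_sum, ← Finset.sum_add_distrib]
      refine Finset.sum_congr rfl fun b _ => ?_
      rcases eq_or_ne b m with rfl | hb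
      · rw [h0]; ring
      · rw [hg₂x x b hb]
        simp only [dotProduct]
        ring
    rw [e, add_dotProduct, smul_dotProduct, smul_eq_mul]
    ring

theorem ModIn.inv {w φ : Vs} {c δ : F} (h : ModIn H m w φ c) (hδ : δ = 1 + φ ⬝ᵥ w) (hδ0 : δ ≠ 0) :
    ModIn H m ((-δ⁻¹) • w) φ c⁻¹ := by
  classical
  obtain ⟨h0, g, hg, hgm, hgx⟩ := h
  have hc : c ≠ 0 := fun e => single_ne (F := F) m (by
    rw [← inv_mulVec_mulVec g (Pi.single m 1), hgm, e, zero_smul, mulVec_zero])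
  refine ⟨h0, g⁻¹, H.inv_mem hg, ?_, fun x l hl => ?_⟩
  · apply mulVec_inj g
    rw [mulVec_inv_mulVec, mulVec_smul, hgm, inv_smul_smul₀ hc]
  · set y := ((g⁻¹ : G) : Matrix (Fin n) (Fin n) F) *ᵥ x with hy
    have hxy : x = (g : Matrix (Fin n) (Fin n) F) *ᵥ y := (mulVec_inv_mulVec g x).symm
    have e : φ ⬝ᵥ x = (φ ⬝ᵥ y) * δ := by
      rw [hxy, hδ, mul_add, mul_one]
      simp only [dotProduct, Finset.mul_sum, ← Finset.sum_add_distrib]
      refine Finset.sum_congr rfl fun b _ => ?_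
      rcases eq_or_ne b m with rfl | hb
      · rw [h0]; ring
      · rw [hgx y b hb]
        simp only [dotProduct]
        ring
    rw [e, Pi.smul_apply, smul_eq_mul, hxy, hgx y l hl]
    field_simp
    ring

/-- An element fixing `e_m`, the identity modulo it, is trivial or gives everything. -/
theorem eta_eq (hn : 4 ≤ n) (hq : 5 ≤ Fintype.card F) (hH : H ≤ slGL n F) (hM : ContainsMono H) {w φ : Vs}
    {p : Fin n} (hp : p ≠ m) (hwp : w p = 0) (hφp : φ p = 0) (hφm : φ m = 0) {g : G} (hg : g ∈ H) {c : F}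
    (hgm : (g : Matrix (Fin n) (Fin n) F) *ᵥ Pi.single m 1 = c • Pi.single m 1)
    (hgx : ∀ (x : Vs) (l : Fin n), l ≠ m → ((g : Matrix (Fin n) (Fin n) F) *ᵥ x) l = x l + (φ ⬝ᵥ x) * w l) :
    H = slGL n F ∨ ∀ x : Vs, ((g : Matrix (Fin n) (Fin n) F) *ᵥ x) m = c * x m := by
  classical
  obtain ⟨s, hs0, hs1, hs2⟩ := exists_ne_pm_one hq
  obtain ⟨d, hd, hdmono, hdm, hdp, hdo, -⟩ := exists_torus (Ne.symm hp) hs0
  have hdH := hM d hd hdmono
  have hc : c ≠ 0 := fun e => single_ne (F := F) m (by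
    rw [← inv_mulVec_mulVec g (Pi.single m 1), hgm, e, zero_smul, mulVec_zero])
  -- `g d` and `d g` agree modulo the line
  set T := (g * d)⁻¹ * (d * g) with hT
  have hTH : T ∈ H := H.mul_mem (H.inv_mem (H.mul_mem hg hdH)) (H.mul_mem hdH hg)
  have hdem : (d : Matrix (Fin n) (Fin n) F) *ᵥ Pi.single m 1 = s • Pi.single m 1 := by
    funext b
    rcases eq_or_ne b m with rfl | hb
    · simp [hdm]
    rcases eq_or_ne b p with rfl | hb'
    · simp [hdp, hb]
    · simp [hdo _ b hb hb', hb]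
  have hφd : ∀ x : Vs, φ ⬝ᵥ ((d : Matrix (Fin n) (Fin n) F) *ᵥ x) = φ ⬝ᵥ x := fun x => by
    refine Finset.sum_congr rfl fun b _ => ?_
    rcases eq_or_ne b m with rfl | hb
    · rw [hφm, zero_mul, zero_mul]
    rcases eq_or_ne b p with rfl | hb'
    · rw [hφp, zero_mul, zero_mul]
    · rw [hdo x b hb hb']
  have hTx : ∀ x : Vs, (T : Matrix (Fin n) (Fin n) F) *ᵥ x =
      x + ((((d : Matrix (Fin n) (Fin n) F) *ᵥ ((g : Matrix (Fin n) (Fin n) F) *ᵥ x)) m -
        ((g : Matrix (Fin n) (Fin n) F) *ᵥ ((d : Matrix (Fin n) (Fin n) F) *ᵥ x)) m) / (c * s)) • Pi.single m 1 := by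
    intro x
    apply mulVec_inj (g * d)
    rw [hT, Units.val_mul (g * d)⁻¹ (d * g), ← mulVec_mulVec, mulVec_inv_mulVec, Units.val_mul, Units.val_mul, ← mulVec_mulVec,
      ← mulVec_mulVec, mulVec_add, mulVec_smul, hdem, smul_smul, mulVec_add, mulVec_smul, hgm, smul_smul]
    funext b
    rcases eq_or_ne b m with rfl | hb
    · simp; field_simp; ring
    · rw [Pi.add_apply, Pi.smul_apply, Pi.single_eq_of_ne hb, smul_zero, add_zero, hgx _ b hb, hφd]
      rcases eq_or_ne b p with rfl | hb'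
      · rw [hdp, hdp, hgx _ _ hb, hwp]; ring
      · rw [hdo _ b hb hb', hdo _ b hb hb', hgx _ b hb]
  set δ : Vs := fun l => (((d : Matrix (Fin n) (Fin n) F) *ᵥ ((g : Matrix (Fin n) (Fin n) F) *ᵥ Pi.single l 1)) m -
        ((g : Matrix (Fin n) (Fin n) F) *ᵥ ((d : Matrix (Fin n) (Fin n) F) *ᵥ Pi.single l 1)) m) / (c * s) with hδ
  by_cases hδ0 : δ = 0
  · right
    intro x
    rw [mulVec_eq_sum_col, Finset.sum_eq_single m]
    · rw [hgm, Pi.smul_apply, Pi.single_eq_same, smul_eq_mul]; ring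
    · intro l _ hl
      have h1 := congrFun hδ0 l
      rw [hδ, Pi.zero_apply, div_eq_zero_iff, or_iff_left (mul_ne_zero hc hs0), sub_eq_zero, hdm] at h1
      set z := ((g : Matrix (Fin n) (Fin n) F) *ᵥ Pi.single l 1) m with hz
      rcases eq_or_ne l p with rfl | hlp
      · have e : (d : Matrix (Fin n) (Fin n) F) *ᵥ Pi.single l 1 = s⁻¹ • Pi.single l 1 := by
          funext b
          rcases eq_or_ne b m with rfl | hb
          · simp [hdm, hl.symm]
          rcases eq_or_ne b l with rfl | hb'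
          · simp [hdp]
          · simp [hdo _ b hb hb', hb']
        rw [e, mulVec_smul, Pi.smul_apply, ← hz, smul_eq_mul] at h1
        have : z * (s * s - 1) = 0 := by
          field_simp at h1
          linear_combination h1
        rw [(mul_eq_zero.mp this).resolve_right (fun h' => ?_), mul_zero]
        rcases mul_self_eq_one_iff.mp (sub_eq_zero.mp h') with h'' | h''
        · exact hs1 h''
        · exact hs2 h''
      · have e : (d : Matrix (Fin n) (Fin n) F) *ᵥ Pi.single l 1 = Pi.single l 1 := by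
          funext b
          rcases eq_or_ne b m with rfl | hb
          · simp [hdm, hl.symm]
          rcases eq_or_ne b p with rfl | hb'
          · simp [hdp, Ne.symm hlp]
          · exact hdo _ b hb hb'
        rw [e, ← hz] at h1
        have : z * (s - 1) = 0 := by linear_combination h1
        rw [(mul_eq_zero.mp this).resolve_right (sub_ne_zero.mpr hs1), mul_zero]
    · simp
  · left
    have hδm : δ m = 0 := by
      rw [hδ]
      simp only [hdem, mulVec_smul, hgm, Pi.smul_apply, Pi.single_eq_same, smul_eq_mul]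
      ring
    refine eq_slGL_of_centre hn hq hH hM ⟨T, hTH, fun x => ?_⟩ hδm hδ0
    rw [hTx]
    congr 2
    rw [hdm, mulVec_eq_sum_col, mulVec_eq_sum_col g ((d : Matrix (Fin n) (Fin n) F) *ᵥ x), Finset.mul_sum,
      ← Finset.sum_sub_distrib, Finset.sum_div]
    refine Finset.sum_congr rfl fun l _ => ?_
    rw [hδ]
    simp only [hdm]
    have e : (d : Matrix (Fin n) (Fin n) F) *ᵥ Pi.single l 1 =
        (((d : Matrix (Fin n) (Fin n) F) *ᵥ Pi.single l 1) l) • Pi.single l 1 := by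
      funext b
      rcases eq_or_ne b l with rfl | hbl
      · simp
      rw [Pi.smul_apply, Pi.single_eq_of_ne hbl, smul_zero]
      rcases eq_or_ne b m with rfl | hb
      · simp [hdm, hbl]
      rcases eq_or_ne b p with rfl | hb'
      · simp [hdp, hbl]
      · simp [hdo _ b hb hb', hbl]
    have e2 : ((d : Matrix (Fin n) (Fin n) F) *ᵥ x) l = ((d : Matrix (Fin n) (Fin n) F) *ᵥ Pi.single l 1) l * x l := by
      rcases eq_or_ne l m with rfl | hb
      · simp [hdm]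
      rcases eq_or_ne l p with rfl | hb'
      · simp [hdp]
      · simp [hdo _ l hb hb']
    rw [e, mulVec_smul, Pi.smul_apply, smul_eq_mul, e2]
    ring

/-- An elementary transvection modulo the line gives everything. -/
theorem eq_slGL_of_mod_elem (hn : 4 ≤ n) (hq : 5 ≤ Fintype.card F) (hH : H ≤ slGL n F) (hM : ContainsMono H)
    {a b : Fin n} (hab : a ≠ b) (ham : a ≠ m) {t : F} (ht : t ≠ 0) (hbm : b ≠ m)
    (h : ModIn H m (Pi.single a 1) (Pi.single b t) 1) : H = slGL n F := by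
  obtain ⟨p, hp⟩ := exists_outside hn {a, b, m} (Finset.card_le_three.trans (by norm_num))
  simp only [Finset.mem_insert, Finset.mem_singleton, not_or] at hp
  obtain ⟨h0, g, hg, hgm, hgx⟩ := h
  rcases eta_eq hn hq hH hM hp.2.2 (Pi.single_eq_of_ne hp.1 _) (Pi.single_eq_of_ne hp.2.1 _) h0 hg hgm hgx with e | e
  · exact e
  refine eq_slGL_of_one hn hH hM hab ht ⟨g, hg, fun x => funext fun l => ?_⟩
  rcases eq_or_ne l m with rfl | hl
  · simp [e x, ham.symm]
  · rw [hgx x l hl]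
    rcases eq_or_ne l a with rfl | hla
    · simp; ring
    · simp [hla]

/-- Scaling one coordinate, compensated at `m`. -/
theorem exists_scale (hM : ContainsMono H) {l : Fin n} (hl : l ≠ m) {s : F} (hs : s ≠ 0) :
    ∃ g ∈ H, (g : Matrix (Fin n) (Fin n) F) *ᵥ Pi.single m 1 = s⁻¹ • Pi.single m 1 ∧
      (∀ x : Vs, ((g : Matrix (Fin n) (Fin n) F) *ᵥ x) l = s * x l) ∧
      ∀ (x : Vs) b, b ≠ l → b ≠ m → ((g : Matrix (Fin n) (Fin n) F) *ᵥ x) b = x b := by
  obtain ⟨g, hg, hgm, hgl, hgo, hgx, -⟩ := exists_torus hl hs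
  refine ⟨g, hM g hg hgm, funext fun b => ?_, hgl, hgx⟩
  rcases eq_or_ne b m with rfl | hb
  · simp [hgo]
  rcases eq_or_ne b l with rfl | hb'
  · simp [hgl, hb]
  · simp [hgx _ b hb' hb, hb]

/-- A transvection modulo the line with coordinate centre. -/
theorem eq_slGL_of_mod_centre (hn : 4 ≤ n) (hq : 5 ≤ Fintype.card F) (hH : H ≤ slGL n F) (hM : ContainsMono H)
    {a l : Fin n} (ham : a ≠ m) (hlm : l ≠ m) {φ : Vs} (hφa : φ a = 0) (hφl : φ l ≠ 0)
    (h : ModIn H m (Pi.single a 1) φ 1) : H = slGL n F := by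
  obtain ⟨s, hs0, hs1, -⟩ := exists_ne_pm_one hq
  have hal : a ≠ l := fun e => hφl (e ▸ hφa)
  obtain ⟨g, hg, hgm, hgl, hgo⟩ := exists_scale hM hlm hs0
  have hdot : φ ⬝ᵥ Pi.single a 1 = 0 := by rw [dotProduct_single, hφa, zero_mul]
  set ψ : Vs := Function.update φ l (φ l / s) with hψ
  have h' : ModIn H m (Pi.single a 1) ψ 1 := h.map hg hgm (fun x => by
    refine Finset.sum_congr rfl fun b _ => ?_
    rcases eq_or_ne b l with rfl | hb
    · rw [hgl, hψ, Function.update_self]; field_simp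
    rw [hψ, Function.update_of_ne hb]
    rcases eq_or_ne b m with rfl | hb'
    · rw [h.1, zero_mul, zero_mul]
    · rw [hgo x b hb hb']) (fun b hb => by
    rcases eq_or_ne b l with rfl | hb'
    · rw [hgl, Pi.single_eq_of_ne hal.symm, mul_zero]
    · rw [hgo _ b hb' hb])
  have hinv := (h.inv (δ := 1) (by rw [hdot, add_zero]) one_ne_zero).congr (w' := Pi.single a 1) (φ' := -φ)
    (by simp [h.1]) (fun x b _ => by simp)
  have h2 := hinv.sameCentre h'
  refine eq_slGL_of_mod_elem hn hq hH hM hal ham (t := φ l * (s⁻¹ - 1))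
    (mul_ne_zero hφl (sub_ne_zero.mpr fun e => hs1 (by rw [← inv_inv s, e, inv_one]))) hlm ?_
  rw [neg_dotProduct, hdot, neg_zero, add_zero, one_smul, inv_one, one_mul] at h2
  convert h2 using 1
  funext b
  rcases eq_or_ne b l with rfl | hb
  · simp [hψ]; field_simp; ring
  · simp [hψ, hb]

/-- A transvection modulo the line with coordinate axis. -/
theorem eq_slGL_of_mod_axis (hn : 4 ≤ n) (hq : 5 ≤ Fintype.card F) (hH : H ≤ slGL n F) (hM : ContainsMono H)
    {b l : Fin n} (hbm : b ≠ m) (hlm : l ≠ m) {t : F} (ht : t ≠ 0) {w : Vs} (hwb : w b = 0) (hwl : w l ≠ 0)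
    (h : ModIn H m w (Pi.single b t) 1) : H = slGL n F := by
  obtain ⟨s, hs0, hs1, -⟩ := exists_ne_pm_one hq
  have hlb : l ≠ b := fun e => hwl (e ▸ hwb)
  obtain ⟨g, hg, hgm, hgl, hgo⟩ := exists_scale hM hlm hs0
  have hdot : (Pi.single b t : Vs) ⬝ᵥ w = 0 := by rw [single_dotProduct, hwb, mul_zero]
  set w' : Vs := Function.update w l (s * w l) with hw'
  have h' : ModIn H m w' (Pi.single b t) 1 := h.map hg hgm (fun x => by
    rw [single_dotProduct, single_dotProduct, hgo x b hlb.symm hbm]) (fun a ha => by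
    rcases eq_or_ne a l with rfl | ha'
    · rw [hgl, hw', Function.update_self]
    · rw [hgo _ a ha' ha, hw', Function.update_of_ne ha'])
  have h2 := (h.inv (δ := 1) (by rw [hdot, add_zero]) one_ne_zero).sameAxis h'
  refine eq_slGL_of_mod_elem hn hq hH hM hlb hlm (t := (s - 1) * w l * t)
    (mul_ne_zero (mul_ne_zero (sub_ne_zero.mpr hs1) hwl) ht) hbm ?_
  have hdot' : (Pi.single b t : Vs) ⬝ᵥ w' = 0 := by
    rw [single_dotProduct, hw', Function.update_of_ne hlb.symm, hwb, mul_zero]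
  rw [hdot', add_zero, one_smul, inv_one, mul_one] at h2
  refine h2.congr (Pi.single_eq_of_ne hbm.symm _) fun x a _ => ?_
  simp only [single_dotProduct, Pi.add_apply, Pi.smul_apply, smul_eq_mul, inv_one]
  rcases eq_or_ne a l with rfl | ha
  · simp [hw']; ring
  · simp [hw', ha]

end Cfsg.Agent.Lib.LinearFrame
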