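import Cfsg.Agent.Lib.LinearFrame.LinesFix

/-!
An overgroup of the monomial subgroup of the special linear group with a non-monomial element fixing a coordinate
line is everything.
-/

set_option autoImplicit false
set_option linter.unusedSectionVars false

namespace Cfsg.Agent.Lib.LinearFrame

open Matrix Cfsg.Agent.Lib.FormMax

variable {F : Type*} [Field F] [Fintype F] {n : ℕ}

local notation "𝕍" => (Fin n → F)
local notation "𝔾" => GL (Fin n) F

variable {H : Subgroup (GL (Fin n) F)} {m : Fin n}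

theorem eq_smul_single {x : 𝕍} (hx : ∀ l, l ≠ m → x l = 0) : x = x m • Pi.single m 1 := by
  funext l
  rcases eq_or_ne l m with rfl | hl
  · simp
  · simp [hx l hl, hl]

theorem ModIn.dot_eq {w φ : 𝕍} {g : 𝔾}
    (hgx : ∀ (x : 𝕍) (l : Fin n), l ≠ m → ((g : Matrix (Fin n) (Fin n) F) *ᵥ x) l = x l + (φ ⬝ᵥ x) * w l)
    {χ : 𝕍} (hχ : χ m = 0) (x : 𝕍) :
    χ ⬝ᵥ ((g : Matrix (Fin n) (Fin n) F) *ᵥ x) = χ ⬝ᵥ x + (φ ⬝ᵥ x) * (χ ⬝ᵥ w) := by
  simp only [dotProduct, Finset.mul_sum, ← Finset.sum_add_distrib]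
  refine Finset.sum_congr rfl fun b _ => ?_
  rcases eq_or_ne b m with rfl | hb
  · rw [hχ]; ring
  · rw [hgx x b hb]
    simp only [dotProduct]
    ring

theorem ModIn.one_add_ne {w φ : 𝕍} {c : F} (h : ModIn H m w φ c) : 1 + φ ⬝ᵥ w ≠ 0 := by
  obtain ⟨h0, g, -, hgm, hgx⟩ := h
  intro e
  have hc : c ≠ 0 := fun e' => single_ne (F := F) m (by
    rw [← inv_mulVec_mulVec g (Pi.single m 1), hgm, e', zero_smul, mulVec_zero])
  have hgw : (g : Matrix (Fin n) (Fin n) F) *ᵥ w =
      ((g : Matrix (Fin n) (Fin n) F) *ᵥ w) m • Pi.single m 1 :=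
    eq_smul_single fun l hl => by rw [hgx w l hl]; linear_combination w l * e
  have hw : w = (((g : Matrix (Fin n) (Fin n) F) *ᵥ w) m / c) • Pi.single m 1 := mulVec_inj g (by
    rw [mulVec_smul, hgm, smul_smul, div_mul_cancel₀ _ hc, ← hgw])
  rw [hw, dotProduct_smul, dotProduct_single, h0, zero_mul, smul_zero, add_zero] at e
  exact one_ne_zero e

theorem ModIn.c_ne {w φ : 𝕍} {c : F} (h : ModIn H m w φ c) : c ≠ 0 := by
  obtain ⟨-, g, -, hgm, -⟩ := h
  exact fun e' => single_ne (F := F) m (by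
    rw [← inv_mulVec_mulVec g (Pi.single m 1), hgm, e', zero_smul, mulVec_zero])

/-- Two elements with the same axis. -/
theorem ModIn.centre_sub {w w' φ : 𝕍} {c : F} (h : ModIn H m w φ c) (h' : ModIn H m w' φ c)
    (he : φ ⬝ᵥ w' = φ ⬝ᵥ w) : ModIn H m (w' - w) φ 1 := by
  have h2 := (h.inv rfl h.one_add_ne).sameAxis h'
  rw [mul_inv_cancel₀ h.c_ne, he] at h2
  refine h2.congr h.1 fun x l _ => ?_
  have hne := h.one_add_ne
  simp only [Pi.add_apply, Pi.smul_apply, Pi.sub_apply, smul_eq_mul]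
  field_simp
  ring

/-- Two elements with the same centre. -/
theorem ModIn.axis_sub {w φ φ' : 𝕍} {c : F} (h : ModIn H m w φ c) (h' : ModIn H m w φ' c) :
    ModIn H m w ((1 + φ ⬝ᵥ w)⁻¹ • (φ' - φ)) 1 := by
  have hne := h.one_add_ne
  have h1 : ModIn H m w ((-(1 + φ ⬝ᵥ w)⁻¹) • φ) c⁻¹ := (h.inv rfl hne).congr (by simp [h.1]) fun x l _ => by
    simp only [smul_dotProduct, Pi.smul_apply, smul_eq_mul]; ring
  have h2 := h1.sameCentre h'
  rw [mul_inv_cancel₀ h.c_ne] at h2
  refine h2.congr (by simp [h.1, h'.1]) fun x l _ => ?_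
  simp only [smul_dotProduct, add_dotProduct, sub_dotProduct, smul_eq_mul]
  field_simp
  ring

/-- Conjugating by a scaled permutation fixing `m`. -/
theorem ModIn.perm (hM : ContainsMono H) {w φ : 𝕍} {c : F} (h : ModIn H m w φ c) (σ : Equiv.Perm (Fin n))
    (hσ : σ m = m) (d : 𝕍) (hd : ∀ l, l ≠ m → d l ≠ 0) :
    ModIn H m (fun l => d l * w (σ l)) (fun l => φ (σ l) / d l) c := by
  obtain ⟨g, hg, hgm, hgx, -, -⟩ := exists_phased σ m d hd
  have hσ' : ∀ l, l ≠ m → σ l ≠ m := fun l hl e => hl (σ.injective (e.trans hσ.symm))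
  have hgem : (g : Matrix (Fin n) (Fin n) F) *ᵥ Pi.single m 1 =
      ((g : Matrix (Fin n) (Fin n) F) *ᵥ Pi.single m 1) m • Pi.single m 1 :=
    eq_smul_single fun l hl => by rw [hgx _ l hl, Pi.single_eq_of_ne (hσ' l hl), mul_zero]
  refine h.map (hM g hg hgm) hgem (fun x => ?_) fun l hl => hgx _ l hl
  simp only [dotProduct]
  rw [← Equiv.sum_comp σ (fun l => φ l * x l)]
  refine Finset.sum_congr rfl fun l _ => ?_
  rcases eq_or_ne l m with rfl | hl
  · simp [hσ, h.1]
  · rw [hgx x l hl]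
    field_simp [hd l hl]

/-- Conjugating one element by another. -/
theorem ModIn.conj {w φ w' φ' : 𝕍} {c c' β : F} (h : ModIn H m w φ c) (h' : ModIn H m w' φ' c')
    (hβ : φ' ⬝ᵥ w + β * (1 + φ ⬝ᵥ w) = 0) : ModIn H m (w' + (φ ⬝ᵥ w') • w) (φ' + β • φ) c' := by
  obtain ⟨h0, g, hg, hgm, hgx⟩ := h
  refine h'.map hg hgm (fun x => ?_) fun l hl => by rw [hgx _ l hl]; simp
  rw [add_dotProduct, smul_dotProduct, ModIn.dot_eq hgx h'.1, ModIn.dot_eq hgx h0, smul_eq_mul]
  linear_combination (φ ⬝ᵥ x) * hβ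

section

variable (hn : 4 ≤ n) (hq : 5 ≤ Fintype.card F) (hH : H ≤ slGL n F) (hM : ContainsMono H)

include hn hq hH hM

/-- A coordinate of the centre off the axis. -/
theorem eq_slGL_of_centre_only {w φ : 𝕍} {c : F} (h : ModIn H m w φ c) {l k : Fin n} (hl : l ≠ m) (hk : k ≠ m)
    (hwl : w l ≠ 0) (hφl : φ l = 0) (hφk : φ k ≠ 0) : H = slGL n F := by
  obtain ⟨s, hs0, hs1, -⟩ := exists_ne_pm_one hq
  have h' : ModIn H m (Function.update w l (s * w l)) φ c :=
    (h.perm hM 1 rfl (Function.update 1 l s) (fun b _ => by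
      rcases eq_or_ne b l with rfl | hb <;> simp [*])).congr h.1 fun x b _ => by
    congr 1
    · refine Finset.sum_congr rfl fun a _ => ?_
      rcases eq_or_ne a l with rfl | ha <;> simp [*]
    · rcases eq_or_ne b l with rfl | hb <;> simp [*]
  have h2 := h.centre_sub h' (Finset.sum_congr rfl fun a _ => by
    rcases eq_or_ne a l with rfl | ha <;> simp [*])
  refine eq_slGL_of_mod_centre hn hq hH hM hl hk (φ := ((s - 1) * w l) • φ) (by simp [hφl])
    (by simp [hφk, hwl, sub_ne_zero.mpr hs1]) (h2.congr (by simp [h.1]) fun x b _ => ?_)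
  rw [smul_dotProduct, smul_eq_mul, Pi.sub_apply]
  rcases eq_or_ne b l with rfl | hb
  · simp; ring
  · simp [hb]

/-- A coordinate of the axis off the centre. -/
theorem eq_slGL_of_axis_only {w φ : 𝕍} {c : F} (h : ModIn H m w φ c) {l k : Fin n} (hl : l ≠ m) (hk : k ≠ m)
    (hφl : φ l ≠ 0) (hwl : w l = 0) (hwk : w k ≠ 0) : H = slGL n F := by
  obtain ⟨s, hs0, hs1, -⟩ := exists_ne_pm_one hq
  have h' : ModIn H m w (Function.update φ l (φ l / s)) c :=
    (h.perm hM 1 rfl (Function.update 1 l s) (fun b _ => by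
      rcases eq_or_ne b l with rfl | hb <;> simp [*])).congr (by simp [Ne.symm hl, h.1]) fun x b _ => by
    congr 1
    · refine Finset.sum_congr rfl fun a _ => ?_
      rcases eq_or_ne a l with rfl | ha <;> simp [*]
    · rcases eq_or_ne b l with rfl | hb <;> simp [*]
  refine eq_slGL_of_mod_axis hn hq hH hM hl hk (t := (1 + φ ⬝ᵥ w)⁻¹ * (φ l * (s⁻¹ - 1))) ?_ hwl hwk
    ((h.axis_sub h').congr (Pi.single_eq_of_ne (Ne.symm hl) _) fun x b _ => ?_)
  · exact mul_ne_zero (inv_ne_zero h.one_add_ne)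
      (mul_ne_zero hφl (sub_ne_zero.mpr fun e => hs1 (by rw [← inv_inv s, e, inv_one])))
  · congr 1
    refine Finset.sum_congr rfl fun a _ => ?_
    rcases eq_or_ne a l with rfl | ha
    · simp only [Pi.sub_apply, Pi.smul_apply, Pi.single_eq_same, Function.update_self, smul_eq_mul, div_eq_mul_inv]
      ring
    · simp [ha]

/-- Three coordinates in the axis, two of them with different products. -/
theorem eq_slGL_of_three {w φ : 𝕍} {c : F} (h : ModIn H m w φ c) {a b e : Fin n} (hab : a ≠ b) (hae : a ≠ e)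
    (hbe : b ≠ e) (ham : a ≠ m) (hbm : b ≠ m) (hem : e ≠ m) (ha : φ a ≠ 0) (hb : φ b ≠ 0) (he : φ e ≠ 0)
    (hne : φ a * w a ≠ φ b * w b) : H = slGL n F := by
  obtain ⟨s, hs0, hs1, -⟩ := exists_ne_pm_one hq
  set u : 𝕍 := Pi.single a (φ b * w b / φ a - w a) + Pi.single b (φ a * w a / φ b - w b) with hu
  have h' : ModIn H m (w + u) φ c :=
    (h.perm hM (Equiv.swap a b) (Equiv.swap_apply_of_ne_of_ne ham.symm hbm.symm)
      (Function.update (Function.update 1 a (φ b / φ a)) b (φ a / φ b)) (fun l _ => by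
      rcases eq_or_ne l b with rfl | hl
      · simp [ha, hb]
      rcases eq_or_ne l a with rfl | hl' <;> simp [*])).congr h.1 fun x l _ => by
    congr 1
    · refine Finset.sum_congr rfl fun l _ => ?_
      rcases eq_or_ne l b with rfl | hl
      · simp [Equiv.swap_apply_right]; field_simp; simp
      rcases eq_or_ne l a with rfl | hl'
      · simp [Equiv.swap_apply_left, hl]; field_simp; simp
      · simp [Equiv.swap_apply_of_ne_of_ne hl' hl, hl, hl']
    · rcases eq_or_ne l b with rfl | hl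
      · simp [hu, Equiv.swap_apply_right, hab.symm]; field_simp
      rcases eq_or_ne l a with rfl | hl'
      · simp [hu, Equiv.swap_apply_left, hl]; field_simp
      · simp [hu, Equiv.swap_apply_of_ne_of_ne hl' hl, hl, hl']
  have hdot : φ ⬝ᵥ u = 0 := by
    rw [hu, dotProduct_add, dotProduct_single, dotProduct_single]
    field_simp
    ring
  have h2 : ModIn H m u φ 1 := by
    simpa using h.centre_sub h' (by rw [dotProduct_add, hdot, add_zero])
  refine eq_slGL_of_axis_only hn hq hH hM h2 hem ham he ?_ ?_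
  · simp [hu, hae.symm, hbe.symm]
  · simp only [hu, Pi.add_apply, Pi.single_eq_same, Pi.single_eq_of_ne hab, add_zero, ne_eq, sub_eq_zero,
      div_eq_iff ha]
    exact fun e' => hne (by rw [e']; ring)

omit hn hH hM in
theorem exists_three_sum (c₀ : F) :
    ∃ x y z : F, x ≠ 0 ∧ y ≠ 0 ∧ z ≠ 0 ∧ x + y + z = c₀ ∧ x⁻¹ + y⁻¹ + z⁻¹ ≠ c₀ := by
  classical
  obtain ⟨z, -, hz⟩ := Finset.exists_mem_notMem_of_card_lt_card (s := ({0, c₀} : Finset F))
    (t := (Finset.univ : Finset F)) (by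
      have := Finset.card_le_two (a := (0 : F)) (b := c₀)
      rw [Finset.card_univ]; omega)
  simp only [Finset.mem_insert, Finset.mem_singleton, not_or] at hz
  set d := c₀ - z with hd
  have hd0 : d ≠ 0 := sub_ne_zero.mpr (Ne.symm hz.2)
  set S := Finset.univ.filter (fun x : F => x * (d - x) * (c₀ - z⁻¹) = d) with hS
  have hS2 : S.card ≤ 2 := by
    by_contra hcon
    obtain ⟨x₁, h₁, x₂, h₂, x₃, h₃, h12, h13, h23⟩ := Finset.two_lt_card.mp (Nat.lt_of_not_le hcon)
    simp only [hS, Finset.mem_filter, Finset.mem_univ, true_and] at h₁ h₂ h₃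
    have hK : c₀ - z⁻¹ ≠ 0 := fun e => hd0 (by rw [← h₁, e, mul_zero])
    have key : ∀ x y : F, x ≠ y → x * (d - x) * (c₀ - z⁻¹) = d → y * (d - y) * (c₀ - z⁻¹) = d → x + y = d := by
      intro x y hxy hx hy
      have : (x - y) * (d - (x + y)) * (c₀ - z⁻¹) = 0 := by linear_combination hx - hy
      exact (sub_eq_zero.mp
        ((mul_eq_zero.mp ((mul_eq_zero.mp this).resolve_right hK)).resolve_left (sub_ne_zero.mpr hxy))).symm
    exact h23 (add_left_cancel ((key _ _ h12 h₁ h₂).trans (key _ _ h13 h₁ h₃).symm))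
  obtain ⟨x, -, hx⟩ := Finset.exists_mem_notMem_of_card_lt_card (s := insert 0 (insert d S))
    (t := (Finset.univ : Finset F)) (by
      have h1 := Finset.card_insert_le 0 (insert d S)
      have h2 := Finset.card_insert_le d S
      rw [Finset.card_univ]; omega)
  simp only [Finset.mem_insert, hS, Finset.mem_filter, Finset.mem_univ, true_and, not_or] at hx
  have hy : d - x ≠ 0 := sub_ne_zero.mpr (Ne.symm hx.2.1)
  refine ⟨x, d - x, z, hx.1, hy, hz.1, by rw [hd]; ring, fun e => hx.2.2 ?_⟩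
  have hx0 := hx.1
  have e' : x⁻¹ + (d - x)⁻¹ = c₀ - z⁻¹ := by linear_combination e
  rw [← e']
  field_simp
  ring

/-- A homology modulo the line with three coordinates in centre and axis. -/
theorem eq_slGL_of_hom_three {v φ : 𝕍} {α c : F} (hα : α ≠ 0) (h : ModIn H m (α • v) φ c) (h1 : φ ⬝ᵥ v = 1)
    {a b e : Fin n} (hab : a ≠ b) (hae : a ≠ e) (hbe : b ≠ e) (ham : a ≠ m) (hbm : b ≠ m) (hem : e ≠ m)
    (ha : φ a ≠ 0) (hb : φ b ≠ 0) (he : φ e ≠ 0) (hva : v a ≠ 0) : H = slGL n F := by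
  classical
  by_cases hcon : ∀ l, l ≠ m → φ l ≠ 0 → φ l * v l = φ a * v a
  swap
  · push Not at hcon
    obtain ⟨l, hlm, hl, hne⟩ := hcon
    have hla : l ≠ a := fun e => hne (e ▸ rfl)
    have hne' : φ l * (α • v) l ≠ φ a * (α • v) a := by
      simp only [Pi.smul_apply, smul_eq_mul]
      exact fun e' => hne (mul_left_cancel₀ hα (by linear_combination e'))
    rcases eq_or_ne l b with rfl | hlb
    · exact eq_slGL_of_three hn hq hH hM h hla hbe hae hbm ham hem hb ha he hne'
    · exact eq_slGL_of_three hn hq hH hM h hla hlb hab hlm ham hbm hl ha hb hne'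
  set r := φ a * v a with hr
  have hr0 : r ≠ 0 := mul_ne_zero ha hva
  have hrb := hcon b hbm hb
  have hre := hcon e hem he
  obtain ⟨x, y, z, hx, hy, hz, hsum, hinv⟩ := exists_three_sum hq (3 - r⁻¹)
  set D : F → F → F → 𝕍 := fun x y z =>
    1 + Pi.single a (x - 1) + Pi.single b (y - 1) + Pi.single e (z - 1) with hD
  have hDdot : ∀ x y z : F, φ ⬝ᵥ (D x y z * v) = 1 + r * (x + y + z - 3) := by
    intro x y z
    have : D x y z * v =
        v + Pi.single a ((x - 1) * v a) + Pi.single b ((y - 1) * v b) + Pi.single e ((z - 1) * v e) := by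
      funext l
      simp only [hD, Pi.mul_apply, Pi.add_apply, Pi.one_apply, Pi.single_apply]
      split_ifs <;> subst_vars <;> ring
    rw [this, dotProduct_add, dotProduct_add, dotProduct_add, h1, dotProduct_single, dotProduct_single,
      dotProduct_single]
    linear_combination (y - 1) * hrb + (z - 1) * hre + (x - 1) * hr.symm
  have hDne : ∀ x y z : F, x ≠ 0 → y ≠ 0 → z ≠ 0 → ∀ l, D x y z l ≠ 0 := by
    intro x y z hx hy hz l
    simp only [hD, Pi.add_apply, Pi.one_apply, Pi.single_apply]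
    split_ifs <;> subst_vars <;> first | contradiction | simpa
  have hDinv : ∀ l, φ l / D x y z l = D x⁻¹ y⁻¹ z⁻¹ l * φ l := by
    intro l
    simp only [hD, Pi.add_apply, Pi.one_apply, Pi.single_apply]
    split_ifs <;> subst_vars <;> first | contradiction | (simp; try ring)
  set v' : 𝕍 := D x y z * v with hv'
  set φ' : 𝕍 := D x⁻¹ y⁻¹ z⁻¹ * φ with hφ'
  have h' : ModIn H m (α • v') φ' c :=
    (h.perm hM 1 rfl (D x y z) (fun l _ => hDne x y z hx hy hz l)).congr (by simp [hφ', h.1]) fun w l _ => by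
    congr 1
    · exact Finset.sum_congr rfl fun k _ => by simp [hφ', hDinv]
    · simp [hv']; ring
  have hA : φ ⬝ᵥ v' = 0 := by rw [hv', hDdot, hsum]; field_simp; ring
  have hB : φ' ⬝ᵥ v ≠ 0 := by
    have : φ' ⬝ᵥ v = φ ⬝ᵥ (D x⁻¹ y⁻¹ z⁻¹ * v) := Finset.sum_congr rfl fun l _ => by
      simp [hφ']; ring
    rw [this, hDdot]
    intro e'
    refine hinv ?_
    field_simp at e' ⊢
    linear_combination e'
  have hB' : φ' ⬝ᵥ v' = 1 := by
    rw [← h1]
    refine Finset.sum_congr rfl fun l _ => ?_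
    have h2 := hDinv l
    have h3 := hDne x y z hx hy hz l
    rw [hφ', hv', Pi.mul_apply, Pi.mul_apply, ← h2]
    field_simp
  have hδ : (1 : F) + α ≠ 0 := by simpa [dotProduct_smul, h1] using h.one_add_ne
  set β := -(α * (φ' ⬝ᵥ v)) / (1 + α) with hβ
  have h2 := h.conj h' (β := β) (by
    rw [dotProduct_smul, dotProduct_smul, h1, smul_eq_mul, smul_eq_mul, mul_one, hβ]
    field_simp
    ring)
  rw [dotProduct_smul, hA, smul_zero, zero_smul, add_zero] at h2
  have h3 := h'.axis_sub h2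
  rw [add_sub_cancel_left, dotProduct_smul, hB', smul_eq_mul, mul_one] at h3
  set κ := (1 + α)⁻¹ * β * α with hκ
  have hκ0 : κ ≠ 0 := mul_ne_zero (mul_ne_zero (inv_ne_zero hδ)
    (div_ne_zero (neg_ne_zero.mpr (mul_ne_zero hα hB)) hδ)) hα
  have h4 : ModIn H m (κ • v') φ 1 := h3.congr h.1 fun w l _ => by
    simp only [smul_dotProduct, Pi.smul_apply, smul_eq_mul, hκ]; ring
  -- two different products among three coordinates
  have hfin : ∀ p q o, p ≠ q → p ≠ o → q ≠ o → p ≠ m → q ≠ m → o ≠ m → φ p ≠ 0 → φ q ≠ 0 → φ o ≠ 0 →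
      D x y z p ≠ D x y z q → H = slGL n F := by
    intro p q o hpq hpo hqo hpm hqm hom hp hq' ho hne
    refine eq_slGL_of_three hn hq hH hM h4 hpq hpo hqo hpm hqm hom hp hq' ho fun e' => hne ?_
    simp only [hv', Pi.smul_apply, Pi.mul_apply, smul_eq_mul] at e'
    have e2 : κ * r * D x y z p = κ * r * D x y z q := by
      linear_combination e' - κ * D x y z p * hcon p hpm hp + κ * D x y z q * hcon q hqm hq'
    exact mul_left_cancel₀ (mul_ne_zero hκ0 hr0) e2
  by_cases hxy : x = y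
  swap
  · exact hfin a b e hab hae hbe ham hbm hem ha hb he (by simp [hD, hab, hab.symm, hae, hbe, hxy])
  by_cases hyz : y = z
  swap
  · exact hfin b e a hbe hab.symm hae.symm hbm hem ham hb he ha
      (by simp [hD, hab.symm, hbe, hbe.symm, hae.symm, hyz])
  subst hxy hyz
  by_cases hx1 : x = 1
  · subst hx1
    exact absurd (by rw [← hsum]; simp) hinv
  by_cases hl : ∃ l, l ≠ m ∧ φ l ≠ 0 ∧ l ≠ a ∧ l ≠ b ∧ l ≠ e
  · obtain ⟨l, hlm, hl, hla, hlb, hle⟩ := hl
    exact hfin a l b (Ne.symm hla) hab hlb ham hlm hbm ha hl hb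
      (by simp [hD, hab, hae, hla, hlb, hle, hx1])
  · push Not at hl
    have h3r : φ ⬝ᵥ v = r + r + r := by
      rw [dotProduct, ← Finset.sum_subset (Finset.subset_univ {a, b, e}) (fun l _ hl' => by
        simp only [Finset.mem_insert, Finset.mem_singleton, not_or] at hl'
        rcases eq_or_ne l m with rfl | hlm
        · simp [h.1]
        rcases eq_or_ne (φ l) 0 with e' | e'
        · simp [e']
        · exact absurd (hl l hlm e' hl'.1 hl'.2.1) hl'.2.2)]
      rw [Finset.sum_insert (by simp [hab, hae]), Finset.sum_insert (by simp [hbe]), Finset.sum_singleton, hrb,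
        hre, hr]
      ring
    rw [h1] at h3r
    have h30 : (3 : F) * x = 0 := by
      have h3r' : r⁻¹ = 3 := by
        field_simp
        linear_combination h3r
      linear_combination hsum - h3r'
    rcases mul_eq_zero.mp h30 with e' | e'
    · exact absurd (show (1 : F) = 0 by linear_combination h3r + r * e') one_ne_zero
    · exact absurd e' hx

/-- A homology modulo the line with two coordinates in the centre. -/
theorem eq_slGL_of_hom {v φ : 𝕍} {α c : F} (hα : α ≠ 0) (hα2 : α + 2 ≠ 0) (h : ModIn H m (α • v) φ c)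
    (h1 : φ ⬝ᵥ v = 1) {a b : Fin n} (hab : a ≠ b) (ham : a ≠ m) (hbm : b ≠ m) (hva : v a ≠ 0)
    (hvb : v b ≠ 0) : H = slGL n F := by
  classical
  have hw : ∀ l, v l ≠ 0 → (α • v) l ≠ 0 := fun l hl => by simp [hα, hl]
  obtain ⟨k, hk⟩ : ∃ k, φ k ≠ 0 := by
    by_contra hno
    push Not at hno
    exact zero_ne_one ((show (0 : F) = φ ⬝ᵥ v by simp [dotProduct, hno]).trans h1)
  have hkm : k ≠ m := fun e => hk (e ▸ h.1)
  by_cases ha : φ a = 0
  · exact eq_slGL_of_centre_only hn hq hH hM h ham hkm (hw a hva) ha hk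
  by_cases hb : φ b = 0
  · exact eq_slGL_of_centre_only hn hq hH hM h hbm hkm (hw b hvb) hb hk
  by_cases hthird : ∃ l, l ≠ m ∧ l ≠ a ∧ l ≠ b ∧ (φ l ≠ 0 ∨ v l ≠ 0)
  · obtain ⟨l, hlm, hla, hlb, hl⟩ := hthird
    rcases eq_or_ne (φ l) 0 with e | e
    · exact eq_slGL_of_centre_only hn hq hH hM h hlm ham (hw l (hl.resolve_left (absurd e))) e ha
    rcases eq_or_ne (v l) 0 with e' | e'
    · exact eq_slGL_of_axis_only hn hq hH hM h hlm ham e (by simp [e']) (hw a hva)
    exact eq_slGL_of_hom_three hn hq hH hM hα h h1 hab (Ne.symm hla) (Ne.symm hlb) ham hbm hlm ha hb e hva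
  push Not at hthird
  obtain ⟨e, he⟩ := exists_outside hn {a, b, m} (Finset.card_le_three.trans (by norm_num))
  simp only [Finset.mem_insert, Finset.mem_singleton, not_or] at he
  obtain ⟨hea, heb, hem⟩ := he
  obtain ⟨hφe, hve⟩ := hthird e hem hea heb
  set σ := Equiv.swap b e with hσ
  have hσm : σ m = m := Equiv.swap_apply_of_ne_of_ne hbm.symm (Ne.symm hem)
  have hσa : σ a = a := Equiv.swap_apply_of_ne_of_ne hab (Ne.symm hea)
  have hσb : σ b = e := Equiv.swap_apply_left b e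
  have hσe : σ e = b := Equiv.swap_apply_right b e
  have h' : ModIn H m (α • (v ∘ σ)) (φ ∘ σ) c :=
    (h.perm hM σ hσm 1 fun l _ => one_ne_zero).congr (by simp [hσm, h.1]) fun x l _ => by
      congr 1
      · exact Finset.sum_congr rfl fun k _ => by simp
      · simp
  set r := φ a * v a with hr
  have hsupp : ∀ f : 𝕍, ∑ l, φ l * f l = φ a * f a + φ b * f b := fun f => by
    rw [← Finset.sum_pair (f := fun l => φ l * f l) hab]
    refine (Finset.sum_subset (Finset.subset_univ _) fun l _ hl => ?_).symm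
    simp only [Finset.mem_insert, Finset.mem_singleton, not_or] at hl
    rcases eq_or_ne l m with rfl | hlm
    · simp [h.1]
    · simp [(hthird l hlm hl.1 hl.2).1]
  have e1 : φ ⬝ᵥ (v ∘ σ) = r := by
    rw [dotProduct, hsupp]
    simp [hσa, hσb, hve, hr]
  have e2 : (φ ∘ σ) ⬝ᵥ v = r := by
    rw [← e1]
    simp only [dotProduct, Function.comp]
    rw [← Equiv.sum_comp σ]
    exact Finset.sum_congr rfl fun l _ => by simp [hσ]
  have e3 : (φ ∘ σ) ⬝ᵥ (v ∘ σ) = 1 := by
    rw [← h1]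
    exact Equiv.sum_comp σ fun l => φ l * v l
  have hδ : (1 : F) + α ≠ 0 := by simpa [dotProduct_smul, h1] using h.one_add_ne
  set β := -(α * r) / (1 + α) with hβ
  have hβ' : β * (1 + α) = -(α * r) := by rw [hβ, div_mul_cancel₀ _ hδ]
  have h2 := h.conj h' (β := β) (by
    rw [dotProduct_smul, dotProduct_smul, h1, e2, smul_eq_mul, smul_eq_mul, mul_one]
    linear_combination hβ')
  set V : 𝕍 := v ∘ σ + (α * r) • v with hV
  set ψ : 𝕍 := φ ∘ σ + β • φ with hψ
  have h3 : ModIn H m (α • V) ψ c := h2.congr h2.1 fun x l _ => by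
    simp only [hV, hψ, dotProduct_smul, e1, Pi.smul_apply, Pi.add_apply, Function.comp_apply, smul_eq_mul]
    ring
  have hψV : ψ ⬝ᵥ V = 1 := by
    simp only [hψ, hV, add_dotProduct, smul_dotProduct, dotProduct_add, dotProduct_smul, e1, e2, e3, h1,
      smul_eq_mul]
    linear_combination r * hβ'
  have hr0 : r ≠ 0 := mul_ne_zero ha hva
  have hVe : V e = v b := by simp [hV, hσe, hve]
  have hψe : ψ e = φ b := by simp [hψ, hσe, hφe]
  have hVb : V b = α * r * v b := by simp [hV, hσb, hve]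
  have hψb : ψ b = β * φ b := by simp [hψ, hσb, hφe]
  have hVa : V a = (1 + α * r) * v a := by simp [hV, hσa]; ring
  have hψa : ψ a = (1 + β) * φ a := by simp [hψ, hσa]; ring
  have hwe : (α • V) e ≠ 0 := by simp [hVe, hα, hvb]
  by_cases hψa0 : ψ a = 0
  · refine eq_slGL_of_centre_only hn hq hH hM h3 ham hem ?_ hψa0 (by rw [hψe]; exact hb)
    simp only [Pi.smul_apply, smul_eq_mul, hVa, ne_eq, mul_eq_zero, hα, hva, or_false, false_or]
    intro e'
    rw [hψa, mul_eq_zero, or_iff_left ha] at hψa0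
    exact hα2 (by linear_combination (1 + α) * hψa0 - hβ' + e')
  by_cases hVa0 : V a = 0
  · exact eq_slGL_of_axis_only hn hq hH hM h3 ham hem hψa0 (by simp [hVa0]) hwe
  exact eq_slGL_of_hom_three hn hq hH hM hα h3 hψV hab (Ne.symm hea) (Ne.symm heb) ham hbm hem hψa0
    (by rw [hψb]; exact mul_ne_zero (div_ne_zero (neg_ne_zero.mpr (mul_ne_zero hα hr0)) hδ) hb)
    (by rw [hψe]; exact hb) hVa0

/-- A non-monomial element fixing a coordinate line gives everything. -/
theorem eq_slGL_of_fix {z : 𝔾} (hz : z ∈ H) {c : F}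
    (hzm : (z : Matrix (Fin n) (Fin n) F) *ᵥ Pi.single m 1 = c • Pi.single m 1) (hzn : ¬IsMono z) :
    H = slGL n F := by
  classical
  have hc : c ≠ 0 := fun e' => single_ne (F := F) m (by
    rw [← inv_mulVec_mulVec z (Pi.single m 1), hzm, e', zero_smul, mulVec_zero])
  set f : Fin n → Fin n → F := fun k l => ((z : Matrix (Fin n) (Fin n) F) *ᵥ Pi.single k 1) l with hf
  have hfm : ∀ l, l ≠ m → f m l = 0 := fun l hl => by simp only [hf, hzm]; simp [hl]
  have hline : ∀ x : 𝕍, (∀ l, l ≠ m → ((z : Matrix (Fin n) (Fin n) F) *ᵥ x) l = 0) → ∀ k, k ≠ m → x k = 0 := by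
    intro x hx k hk
    have h2 : x = (((z : Matrix (Fin n) (Fin n) F) *ᵥ x) m / c) • Pi.single m 1 := mulVec_inj z (by
      rw [mulVec_smul, hzm, smul_smul, div_mul_cancel₀ _ hc]
      exact eq_smul_single hx)
    rw [h2]; simp [hk]
  by_cases hwt : ∀ k a b, k ≠ m → a ≠ m → b ≠ m → f k a ≠ 0 → f k b ≠ 0 → a = b
  · have hsup : ∀ k, k ≠ m → ∃ a, a ≠ m ∧ f k a ≠ 0 := fun k hk => by
      by_contra hno
      push Not at hno
      simpa using hline (Pi.single k 1) (fun l hl => hno l hl) k hk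
    choose π₀ hπm hπf using hsup
    set π : Fin n → Fin n := fun k => if hk : k = m then m else π₀ k hk with hπ
    have hπinj : Function.Injective π := by
      intro k k' e
      simp only [hπ] at e
      split_ifs at e with h1 h2 h2
      · rw [h1, h2]
      · exact absurd e.symm (hπm k' h2)
      · exact absurd e (hπm k h1)
      · by_contra hne
        have h3 := hline (f k' (π₀ k h1) • Pi.single k 1 - f k (π₀ k h1) • Pi.single k' 1) (fun l hl => by
          rw [mulVec_sub, mulVec_smul, mulVec_smul, Pi.sub_apply, Pi.smul_apply, Pi.smul_apply]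
          show f k' (π₀ k h1) * f k l - f k (π₀ k h1) * f k' l = 0
          rcases eq_or_ne l (π₀ k h1) with rfl | hla
          · ring
          · rw [not_not.mp fun hh => hla (hwt k l _ h1 hl (hπm k h1) hh (hπf k h1)),
              not_not.mp fun hh => hla ((hwt k' l _ h2 hl (hπm k' h2) hh (hπf k' h2)).trans e.symm)]
            ring) k h1
        simp [hne] at h3
        exact hπf k' h2 (e ▸ h3)
    set σ : Equiv.Perm (Fin n) := (Equiv.ofBijective π (Finite.injective_iff_bijective.mp hπinj)).symm with hσ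
    have hσπ : ∀ l, π (σ l) = l := fun l => Equiv.ofBijective_apply_symm_apply π _ l
    have hσm : ∀ l, l ≠ m → σ l ≠ m := fun l hl e => hl (by rw [← hσπ l, e, hπ]; simp)
    have hfσ : ∀ l, l ≠ m → f (σ l) l ≠ 0 := fun l hl => by
      have h1 := hπf (σ l) (hσm l hl)
      have h2 := hσπ l
      simp only [hπ, dif_neg (hσm l hl)] at h2
      rwa [h2] at h1
    obtain ⟨p, hp, hpmono, hpx, -, -⟩ := exists_phased σ m (fun l => f (σ l) l) hfσ
    have hzx : ∀ (x : 𝕍) (l : Fin n), l ≠ m →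
        ((z : Matrix (Fin n) (Fin n) F) *ᵥ x) l = f (σ l) l * x (σ l) := by
      intro x l hl
      rw [mulVec_eq_sum_col, Finset.sum_eq_single (σ l)]
      · ring
      · intro k _ hk
        rcases eq_or_ne k m with rfl | hkm
        · show x k * f k l = 0
          rw [hfm l hl, mul_zero]
        · by_contra hne
          have h1 := hwt k l (π₀ k hkm) hkm hl (hπm k hkm) (right_ne_zero_of_mul hne) (hπf k hkm)
          exact hk (hπinj (by rw [hσπ, h1]; simp [hπ, hkm]))
      · simp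
    set z₁ := p⁻¹ * z with hz₁
    have hz₁H : z₁ ∈ H := H.mul_mem (H.inv_mem (hM p hp hpmono)) hz
    have hz₁x : ∀ (x : 𝕍) (l : Fin n), l ≠ m → ((z₁ : Matrix (Fin n) (Fin n) F) *ᵥ x) l = x l := by
      intro x l hl
      have hsig : σ (π l) = l := Equiv.ofBijective_symm_apply_apply π _ l
      have hπl : π l ≠ m := by simp only [hπ, dif_neg hl]; exact hπm l hl
      have h1 : (p : Matrix (Fin n) (Fin n) F) *ᵥ ((z₁ : Matrix (Fin n) (Fin n) F) *ᵥ x) =
          (z : Matrix (Fin n) (Fin n) F) *ᵥ x := by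
        rw [hz₁, Units.val_mul, ← mulVec_mulVec, mulVec_inv_mulVec]
      have h2 := congrFun h1 (π l)
      rw [hpx _ _ hπl, hzx _ _ hπl, hsig] at h2
      have h3 := hfσ (π l) hπl
      rw [hsig] at h3
      exact mul_left_cancel₀ h3 h2
    have hz₁m : (z₁ : Matrix (Fin n) (Fin n) F) *ᵥ Pi.single m 1 =
        ((z₁ : Matrix (Fin n) (Fin n) F) *ᵥ Pi.single m 1) m • Pi.single m 1 :=
      eq_smul_single fun l hl => by rw [hz₁x _ l hl, Pi.single_eq_of_ne hl]
    obtain ⟨p', hp'⟩ := exists_outside hn {m} (by simp)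
    rw [Finset.mem_singleton] at hp'
    rcases eta_eq hn hq hH hM (w := 0) (φ := 0) hp' rfl rfl rfl hz₁H hz₁m
      (fun x l hl => by simp [hz₁x x l hl]) with e | e
    · exact e
    refine absurd ?_ hzn
    have hz₁mono : IsMono z₁ := fun k => by
      rcases eq_or_ne k m with rfl | hk
      · exact ⟨k, _, hz₁m⟩
      refine ⟨k, 1, funext fun l => ?_⟩
      rcases eq_or_ne l m with rfl | hl
      · rw [e]; simp [Ne.symm hk]
      · rw [hz₁x _ l hl, one_smul]
    have := hpmono.mul hz₁mono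
    rwa [hz₁, mul_inv_cancel_left] at this
  · push Not at hwt
    obtain ⟨k, a, b, hkm, ham, hbm, ha, hb, hab⟩ := hwt
    obtain ⟨s, hs0, hs1, hs2⟩ := exists_ne_pm_one hq
    obtain ⟨d, hd, hdmono, hdk, hdm, hdo, -⟩ := exists_torus hkm hs0
    set φ : 𝕍 := fun l => (((z⁻¹ : 𝔾) : Matrix (Fin n) (Fin n) F) *ᵥ Pi.single l 1) k with hφ
    have hφx : ∀ x : 𝕍, φ ⬝ᵥ x = (((z⁻¹ : 𝔾) : Matrix (Fin n) (Fin n) F) *ᵥ x) k := fun x => by
      rw [mulVec_eq_sum_col]
      exact Finset.sum_congr rfl fun l _ => mul_comm _ _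
    have hzinv : ((z⁻¹ : 𝔾) : Matrix (Fin n) (Fin n) F) *ᵥ Pi.single m 1 = c⁻¹ • Pi.single m 1 := by
      apply mulVec_inj z
      rw [mulVec_inv_mulVec, mulVec_smul, hzm, inv_smul_smul₀ hc]
    have hφm : φ m = 0 := by simp only [hφ, hzinv]; simp [hkm]
    have hdem : (d : Matrix (Fin n) (Fin n) F) *ᵥ Pi.single m 1 = s⁻¹ • Pi.single m 1 := by
      funext l
      rcases eq_or_ne l m with rfl | hl
      · simp [hdm]
      rcases eq_or_ne l k with rfl | hl'
      · simp [hdk, hl]
      · simp [hdo _ l hl' hl, hl]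
    have hy : ModIn H m ((s - 1) • f k) φ s⁻¹ := by
      refine ⟨hφm, z * d * z⁻¹, H.mul_mem (H.mul_mem hz (hM d hd hdmono)) (H.inv_mem hz), ?_, fun x l hl => ?_⟩
      · rw [Units.val_mul, Units.val_mul, ← mulVec_mulVec, ← mulVec_mulVec, hzinv, mulVec_smul, hdem, mulVec_smul,
          mulVec_smul, hzm, smul_smul, smul_smul]
        field_simp
      · rw [Units.val_mul, Units.val_mul, ← mulVec_mulVec, ← mulVec_mulVec]
        set u := ((z⁻¹ : 𝔾) : Matrix (Fin n) (Fin n) F) *ᵥ x with hu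
        have hdu : (d : Matrix (Fin n) (Fin n) F) *ᵥ u =
            u + ((s - 1) * u k) • Pi.single k 1 + ((s⁻¹ - 1) * u m) • Pi.single m 1 := by
          funext j
          rcases eq_or_ne j k with rfl | hj
          · simp [hdk, hkm]; ring
          rcases eq_or_ne j m with rfl | hj'
          · simp [hdm, hj]; ring
          · simp [hdo _ j hj hj', hj, hj']
        rw [hdu, mulVec_add, mulVec_add, mulVec_smul, mulVec_smul, hu, mulVec_inv_mulVec, hzm, hφx]
        simp [hf, hl]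
        ring
    refine eq_slGL_of_hom hn hq hH hM (sub_ne_zero.mpr hs1)
      (fun e => hs2 (by linear_combination e)) hy ?_ hab ham hbm ha hb
    rw [hφx]
    show (((z⁻¹ : 𝔾) : Matrix (Fin n) (Fin n) F) *ᵥ ((z : Matrix (Fin n) (Fin n) F) *ᵥ Pi.single k 1)) k = 1
    rw [inv_mulVec_mulVec, Pi.single_eq_same]

end

end Cfsg.Agent.Lib.LinearFrame
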