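import Cfsg.Agent.Lib.LinearFrame.LinesHom

/-!
An overgroup of the monomial subgroup of the special linear group with a non-monomial element is everything,
over fields with at least five elements.
-/

set_option autoImplicit false
set_option linter.unusedSectionVars false

namespace Cfsg.Agent.Lib.LinearFrame

open Matrix Cfsg.Agent.Lib.FormMax

variable {F : Type*} [Field F] [Fintype F] {n : ℕ}

local notation "𝕍" => (Fin n → F)
local notation "𝔾" => GL (Fin n) F

variable {H : Subgroup (GL (Fin n) F)}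

theorem exists_ne_order_three (hq : 5 ≤ Fintype.card F) :
    ∃ s : F, s ≠ 0 ∧ s ≠ 1 ∧ s ≠ -1 ∧ s * s + s + 1 ≠ 0 := by
  classical
  obtain ⟨r, hr0, hr1, hr2⟩ := exists_ne_pm_one hq
  by_cases hr : r * r + r + 1 = 0
  swap
  · exact ⟨r, hr0, hr1, hr2, hr⟩
  have h3 : r ^ 3 = 1 := by linear_combination (r - 1) * hr
  have hord : orderOf (Units.mk0 r hr0) = 3 := by
    have h := orderOf_eq_prime (p := 3) (x := Units.mk0 r hr0) (Units.ext (by simpa using h3))
      (fun e => hr1 (by simpa using congrArg Units.val e))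
    exact h
  have hdvd : 3 ∣ Fintype.card F - 1 := by
    rw [← Fintype.card_units, ← hord]; exact orderOf_dvd_card
  obtain ⟨s, -, hs⟩ := Finset.exists_mem_notMem_of_card_lt_card (s := ({0, 1, -1, r, -1 - r} : Finset F))
    (t := (Finset.univ : Finset F)) (by
      have := Finset.card_le_five (a := (0 : F)) (b := 1) (c := -1) (d := r) (e := -1 - r)
      rw [Finset.card_univ]; omega)
  simp only [Finset.mem_insert, Finset.mem_singleton, not_or] at hs
  refine ⟨s, hs.1, hs.2.1, hs.2.2.1, fun e => ?_⟩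
  have : (s - r) * (s - (-1 - r)) = 0 := by linear_combination e - hr
  rcases mul_eq_zero.mp this with h | h
  · exact hs.2.2.2.1 (sub_eq_zero.mp h)
  · exact hs.2.2.2.2 (sub_eq_zero.mp h)

theorem exists_outside_four (h6 : 6 ≤ n) (a b c d : Fin n) : ∃ p, p ∉ ({a, b, c, d} : Finset (Fin n)) := by
  obtain ⟨p, -, hp⟩ := Finset.exists_mem_notMem_of_card_lt_card (s := ({a, b, c, d} : Finset (Fin n))) (t := Finset.univ)
    (by have := Finset.card_le_four (a := a) (b := b) (c := c) (d := d); rw [Finset.card_univ, Fintype.card_fin]; omega)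
  exact ⟨p, hp⟩

section

variable (hn : 4 ≤ n) (hq : 5 ≤ Fintype.card F) (hH : H ≤ slGL n F) (hM : ContainsMono H)

include hn hq hH hM

/-- A column with one entry. -/
theorem eq_slGL_of_col {g : 𝔾} (hg : g ∈ H) (hgn : ¬IsMono g) {l o : Fin n} {c : F}
    (hcol : (g : Matrix (Fin n) (Fin n) F) *ᵥ Pi.single l 1 = c • Pi.single o 1) : H = slGL n F := by
  obtain ⟨r, hr⟩ := exists_outside hn {o, l} (Finset.card_le_two.trans (by norm_num))
  simp only [Finset.mem_insert, Finset.mem_singleton, not_or] at hr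
  obtain ⟨p, hp, hpm, hpx, hpr, -⟩ := exists_phased (Equiv.swap o l) r (fun _ => (1 : F)) (fun _ _ => one_ne_zero)
  have hpe : (p : Matrix (Fin n) (Fin n) F) *ᵥ Pi.single o 1 = Pi.single l 1 := by
    funext j
    rcases eq_or_ne j r with rfl | hj
    · rw [hpr, Equiv.swap_apply_of_ne_of_ne hr.1 hr.2, Pi.single_eq_of_ne hr.1, Pi.single_eq_of_ne hr.2, mul_zero]
    · rw [hpx _ j hj, one_mul]
      rcases eq_or_ne j l with rfl | hjl
      · rw [Equiv.swap_apply_right, Pi.single_eq_same, Pi.single_eq_same]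
      rw [Pi.single_eq_of_ne hjl, Pi.single_eq_of_ne]
      intro e
      exact hjl ((Equiv.swap o l).injective (by rw [e, Equiv.swap_apply_right]))
  refine eq_slGL_of_fix hn hq hH hM (m := l) (H.mul_mem (hM p hp hpm) hg) (c := c) ?_ fun h => hgn ?_
  · rw [Units.val_mul, ← mulVec_mulVec, hcol, mulVec_smul, hpe]
  · have := hpm.inv.mul h
    rwa [inv_mul_cancel_left] at this

/-- Two zeros in a column confine the columns meeting one of them. -/
theorem pair_zeros {g : 𝔾} (hg : g ∈ H) {j c₀ : Fin n}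
    (h0 : ((g : Matrix (Fin n) (Fin n) F) *ᵥ Pi.single j 1) c₀ = 0) (c₁ : Fin n) (h01 : c₀ ≠ c₁)
    (h1 : ((g : Matrix (Fin n) (Fin n) F) *ᵥ Pi.single j 1) c₁ = 0) :
    H = slGL n F ∨ ∀ l, ((g : Matrix (Fin n) (Fin n) F) *ᵥ Pi.single l 1) c₀ ≠ 0 →
      ∀ t, t ≠ c₀ → t ≠ c₁ → ((g : Matrix (Fin n) (Fin n) F) *ᵥ Pi.single l 1) t = 0 := by
  obtain ⟨s, hs0, hs1, hs2, hs3⟩ := exists_ne_order_three hq
  obtain ⟨d, hd, hdm, hd0, hd1, hdo, -⟩ := exists_torus h01 hs0
  have hdj : (d : Matrix (Fin n) (Fin n) F) *ᵥ ((g : Matrix (Fin n) (Fin n) F) *ᵥ Pi.single j 1) =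
      (g : Matrix (Fin n) (Fin n) F) *ᵥ Pi.single j 1 := by
    funext t
    rcases eq_or_ne t c₀ with rfl | ht
    · rw [hd0, h0, mul_zero]
    rcases eq_or_ne t c₁ with rfl | ht'
    · rw [hd1, h1, mul_zero]
    · exact hdo _ t ht ht'
  set y := g⁻¹ * d * g with hy
  have hgy : ∀ x : 𝕍, (g : Matrix (Fin n) (Fin n) F) *ᵥ ((y : Matrix (Fin n) (Fin n) F) *ᵥ x) =
      (d : Matrix (Fin n) (Fin n) F) *ᵥ ((g : Matrix (Fin n) (Fin n) F) *ᵥ x) := fun x => by
    rw [hy, Units.val_mul, Units.val_mul, ← mulVec_mulVec, ← mulVec_mulVec, mulVec_inv_mulVec]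
  by_cases hym : IsMono y
  swap
  · refine Or.inl (eq_slGL_of_fix hn hq hH hM (m := j)
      (H.mul_mem (H.mul_mem (H.inv_mem hg) (hM d hd hdm)) hg) (c := 1) ?_ hym)
    rw [one_smul]
    exact mulVec_inj g ((hgy _).trans hdj)
  right
  obtain ⟨π, c, hπ, hc0, hc⟩ := hym.exists_map
  set S : F := s + 1 + s⁻¹ with hS
  have hS0 : S ≠ 0 := fun e => hs3 (by
    rw [hS] at e; field_simp at e; linear_combination e)
  have hcub : ∀ x : 𝕍,
      (d : Matrix (Fin n) (Fin n) F) *ᵥ ((d : Matrix (Fin n) (Fin n) F) *ᵥ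
        ((d : Matrix (Fin n) (Fin n) F) *ᵥ x)) + S • ((d : Matrix (Fin n) (Fin n) F) *ᵥ x) =
      S • ((d : Matrix (Fin n) (Fin n) F) *ᵥ ((d : Matrix (Fin n) (Fin n) F) *ᵥ x)) + x := by
    intro x
    funext t
    simp only [Pi.add_apply, Pi.smul_apply, smul_eq_mul, hS]
    rcases eq_or_ne t c₀ with rfl | ht
    · simp only [hd0]; field_simp; ring
    rcases eq_or_ne t c₁ with rfl | ht'
    · simp only [hd1]; field_simp; ring
    · simp only [hdo _ t ht ht']; ring
  have hπ2 : ∀ l, π (π l) = l := by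
    intro l
    by_contra hl
    have hl1 : π l ≠ l := fun e => hl (by rw [e, e])
    have h := hcub ((g : Matrix (Fin n) (Fin n) F) *ᵥ Pi.single l 1)
    simp only [← hgy, ← mulVec_smul, ← mulVec_add] at h
    have h' := congrFun (mulVec_inj g h) (π l)
    simp only [hc, mulVec_smul, mulVec_add, smul_smul, Pi.add_apply, Pi.smul_apply, Pi.single_eq_same, smul_eq_mul,
      Pi.single_eq_of_ne hl1, Pi.single_eq_of_ne (fun e => hl1 (hπ e.symm) : π l ≠ π (π l)),
      Pi.single_eq_of_ne (fun e => hl (hπ e.symm) : π l ≠ π (π (π l))), mul_zero, add_zero, zero_add,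
      mul_one] at h'
    exact mul_ne_zero hS0 (hc0 l) h'
  intro l hl t ht0 ht1
  set x := (g : Matrix (Fin n) (Fin n) F) *ᵥ Pi.single l 1 with hx
  have hdd : (d : Matrix (Fin n) (Fin n) F) *ᵥ ((d : Matrix (Fin n) (Fin n) F) *ᵥ x) = (c l * c (π l)) • x := by
    rw [hx, ← hgy, ← hgy, hc, mulVec_smul, hc, hπ2, smul_smul, mulVec_smul]
  have e0 := congrFun hdd c₀
  have et := congrFun hdd t
  rw [hd0, hd0, Pi.smul_apply, smul_eq_mul] at e0
  rw [hdo _ t ht0 ht1, hdo _ t ht0 ht1, Pi.smul_apply, smul_eq_mul] at et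
  have hκ : c l * c (π l) = s * s := mul_right_cancel₀ hl (by linear_combination -e0)
  have : (1 - s * s) * x t = 0 := by rw [← hκ]; linear_combination et
  refine (mul_eq_zero.mp this).resolve_left fun e => ?_
  rcases mul_self_eq_one_iff.mp (sub_eq_zero.mp e).symm with h | h
  · exact hs1 h
  · exact hs2 h

/-- A column with three zeros. -/
theorem eq_slGL_of_three_zeros {g : 𝔾} (hg : g ∈ H) (hgn : ¬IsMono g) {j c₀ c₁ c₂ : Fin n} (h01 : c₀ ≠ c₁)
    (h02 : c₀ ≠ c₂) (h12 : c₁ ≠ c₂) (h0 : ((g : Matrix (Fin n) (Fin n) F) *ᵥ Pi.single j 1) c₀ = 0)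
    (h1 : ((g : Matrix (Fin n) (Fin n) F) *ᵥ Pi.single j 1) c₁ = 0)
    (h2 : ((g : Matrix (Fin n) (Fin n) F) *ᵥ Pi.single j 1) c₂ = 0) : H = slGL n F := by
  have hpair := pair_zeros hn hq hH hM hg h0
  rcases hpair c₁ h01 h1 with e | hA
  · exact e
  rcases hpair c₂ h02 h2 with e | hB
  · exact e
  obtain ⟨l, hl⟩ := exists_col_ne g c₀
  refine eq_slGL_of_col hn hq hH hM hg hgn (l := l) (o := c₀) (eq_smul_single fun t ht => ?_)
  rcases eq_or_ne t c₁ with rfl | ht1
  · exact hB l hl t ht h12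
  · exact hA l hl t ht ht1

/-- A column with two zeros. -/
theorem eq_slGL_of_two_zeros (h6 : 6 ≤ n) {g : 𝔾} (hg : g ∈ H) (hgn : ¬IsMono g) {j c₀ c₁ : Fin n} (h01 : c₀ ≠ c₁)
    (h0 : ((g : Matrix (Fin n) (Fin n) F) *ᵥ Pi.single j 1) c₀ = 0)
    (h1 : ((g : Matrix (Fin n) (Fin n) F) *ᵥ Pi.single j 1) c₁ = 0) : H = slGL n F := by
  classical
  rcases pair_zeros hn hq hH hM hg h0 c₁ h01 h1 with e | hA
  · exact e
  obtain ⟨l, hl⟩ := exists_col_ne g c₀
  obtain ⟨d₀, hd0, d₁, hd1, d₂, hd2, e01, e02, e12⟩ := Finset.two_lt_card.mp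
    (show 2 < (Finset.univ \ ({c₀, c₁} : Finset (Fin n))).card by
      have := Finset.card_le_two (a := c₀) (b := c₁)
      rw [Finset.card_univ_sdiff, Fintype.card_fin]; omega)
  simp only [Finset.mem_sdiff, Finset.mem_univ, true_and, Finset.mem_insert, Finset.mem_singleton, not_or]
    at hd0 hd1 hd2
  exact eq_slGL_of_three_zeros hn hq hH hM hg hgn e01 e02 e12 (hA l hl _ hd0.1 hd0.2) (hA l hl _ hd1.1 hd1.2)
    (hA l hl _ hd2.1 hd2.2)

/-- A column supported in a small set. -/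
theorem eq_slGL_of_small_col (h6 : 6 ≤ n) {g : 𝔾} (hg : g ∈ H) (hgn : ¬IsMono g) {j : Fin n} (s : Finset (Fin n))
    (hs : s.card + 2 ≤ n) (hsupp : ∀ t, t ∉ s → ((g : Matrix (Fin n) (Fin n) F) *ᵥ Pi.single j 1) t = 0) :
    H = slGL n F := by
  classical
  obtain ⟨c₀, h0, c₁, h1, h01⟩ := Finset.one_lt_card.mp
    (show 1 < (Finset.univ \ s).card by rw [Finset.card_univ_sdiff, Fintype.card_fin]; omega)
  simp only [Finset.mem_sdiff, Finset.mem_univ, true_and] at h0 h1
  exact eq_slGL_of_two_zeros hn hq hH hM h6 hg hgn h01 (hsupp _ h0) (hsupp _ h1)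

/-- A transvection with three coordinates in the centre and one outside the axis. -/
theorem eq_slGL_of_trIn {v φ : 𝕍} (h : TrIn H v φ) {x y z : Fin n} (hxy : x ≠ y) (hxz : x ≠ z) (hyz : y ≠ z)
    (hx : v x ≠ 0) (hy : v y ≠ 0) (hz : v z ≠ 0) (hφ : φ ≠ 0) {k : Fin n} (hk : φ k = 0) : H = slGL n F := by
  obtain ⟨g, hg, hgx⟩ := h
  obtain ⟨l, hl⟩ := Function.ne_iff.mp hφ
  refine eq_slGL_of_fix hn hq hH hM (m := k) hg (c := 1)
    (by rw [hgx, dotProduct_single, hk, zero_mul, zero_smul, add_zero, one_smul]) fun hmono => ?_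
  obtain ⟨o, c, hc⟩ := hmono l
  rw [hgx, dotProduct_single, mul_one] at hc
  have key : ∀ t, v t ≠ 0 → t = l ∨ t = o := fun t ht => by
    by_contra hno
    rw [not_or] at hno
    have := congrFun hc t
    simp [hno.1, hno.2] at this
    exact this.elim hl ht
  rcases key x hx with rfl | rfl <;> rcases key y hy with h | h <;> rcases key z hz with h' | h' <;>
    subst_vars <;> simp_all

/-- The case of even characteristic. -/
theorem eq_slGL_of_even (h6 : 6 ≤ n) {g : 𝔾} (hg : g ∈ H) (hgn : ¬IsMono g) (h2 : (2 : F) = 0) : H = slGL n F := by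
  classical
  have hneg : ∀ x : F, -x = x := fun x => by linear_combination -x * h2
  set C : Fin n → 𝕍 := fun l => (g : Matrix (Fin n) (Fin n) F) *ᵥ Pi.single l 1 with hC
  obtain ⟨a, x, y, hxy, hx, hy⟩ : ∃ a x y, x ≠ y ∧ C a x ≠ 0 ∧ C a y ≠ 0 := by
    by_contra hno
    push Not at hno
    refine hgn fun l => ?_
    by_cases hl : ∃ o, C l o ≠ 0
    · obtain ⟨o, ho⟩ := hl
      exact ⟨o, C l o, eq_smul_single fun t ht => hno l o t (Ne.symm ht) ho⟩
    · push Not at hl
      exact ⟨l, 0, by rw [zero_smul]; exact funext hl⟩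
  obtain ⟨z, hz⟩ := exists_outside hn {x, y} (Finset.card_le_two.trans (by norm_num))
  simp only [Finset.mem_insert, Finset.mem_singleton, not_or] at hz
  obtain ⟨b, hba, hbz⟩ : ∃ b, b ≠ a ∧ (C a z ≠ 0 ∨ C b z ≠ 0) := by
    obtain ⟨b, hb⟩ := exists_col_ne g z
    rcases eq_or_ne b a with rfl | hba
    · obtain ⟨b', hb'⟩ := exists_outside hn {b} (by simp)
      rw [Finset.mem_singleton] at hb'
      exact ⟨b', hb', Or.inl hb⟩
    · exact ⟨b, hba, Or.inr hb⟩
  obtain ⟨lam, -, hlam⟩ := Finset.exists_mem_notMem_of_card_lt_card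
    (s := ({0, C a x / C b x, C a y / C b y, C a z / C b z} : Finset F)) (t := (Finset.univ : Finset F)) (by
      have := Finset.card_le_four (a := (0 : F)) (b := C a x / C b x) (c := C a y / C b y) (d := C a z / C b z)
      rw [Finset.card_univ]; omega)
  simp only [Finset.mem_insert, Finset.mem_singleton, not_or] at hlam
  obtain ⟨hl0, hlx, hly, hlz⟩ := hlam
  have hsum : ∀ t, lam ≠ C a t / C b t → (C a t ≠ 0 ∨ C b t ≠ 0) → C a t + lam * C b t ≠ 0 := by
    intro t ht hne e
    rcases eq_or_ne (C b t) 0 with h | h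
    · rw [h, mul_zero, add_zero] at e
      exact hne.elim (fun h' => h' e) fun h' => h' h
    · refine ht ((eq_div_iff h).mpr ?_)
      linear_combination e - C a t * h2
  -- a transvection permuting the coordinate lines
  obtain ⟨o, ho⟩ := exists_outside hn {a, b} (Finset.card_le_two.trans (by norm_num))
  simp only [Finset.mem_insert, Finset.mem_singleton, not_or] at ho
  set f : 𝕍 := Pi.single a 1 + Pi.single b lam with hf
  set η : 𝕍 := Pi.single a 1 + Pi.single b lam⁻¹ with hη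
  have hT : TrIn H f η := by
    obtain ⟨p, hp, hpm, hpx, hpo, -⟩ := exists_phased (Equiv.swap a b) o
      (Function.update (Function.update 1 a lam⁻¹) b lam) (fun l _ => by
        rcases eq_or_ne l b with rfl | hlb
        · simpa using hl0
        rcases eq_or_ne l a with rfl | hla <;> simp [*])
    have hprod : ∏ l ∈ Finset.univ.erase o, Function.update (Function.update (1 : 𝕍) a lam⁻¹) b lam l = 1 := by
      rw [← Finset.prod_subset (s₁ := {a, b}) (fun l hl => by
          simp only [Finset.mem_insert, Finset.mem_singleton] at hl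
          rcases hl with rfl | rfl <;> simp [Ne.symm ho.1, Ne.symm ho.2]) (fun l _ hl => by
          simp only [Finset.mem_insert, Finset.mem_singleton, not_or] at hl
          simp [hl.1, hl.2]), Finset.prod_pair hba.symm]
      simp [hba.symm, hl0]
    refine ⟨p, hM p hp hpm, fun w => funext fun t => ?_⟩
    have hηw : η ⬝ᵥ w = w a + lam⁻¹ * w b := by
      rw [hη, add_dotProduct, single_dotProduct, single_dotProduct, one_mul]
    rw [hηw, Pi.add_apply, Pi.smul_apply, hf, Pi.add_apply, smul_eq_mul]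
    rcases eq_or_ne t o with rfl | hto
    · rw [hpo, hprod, Equiv.swap_apply_of_ne_of_ne ho.1 ho.2, Pi.single_eq_of_ne ho.1, Pi.single_eq_of_ne ho.2,
        Equiv.Perm.sign_swap hba.symm]
      simp [hneg]
    rw [hpx _ t hto]
    rcases eq_or_ne t b with rfl | htb
    · rw [Equiv.swap_apply_right, Function.update_self, Pi.single_eq_of_ne hba, Pi.single_eq_same, zero_add,
        add_mul, mul_assoc, mul_comm (w t) lam, ← mul_assoc, inv_mul_cancel₀ hl0, one_mul, mul_comm]
      linear_combination -(w t) * h2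
    rcases eq_or_ne t a with rfl | hta
    · rw [Equiv.swap_apply_left, Function.update_of_ne htb, Function.update_self, Pi.single_eq_same,
        Pi.single_eq_of_ne htb, add_zero, mul_one]
      linear_combination -(w t) * h2
    · rw [Equiv.swap_apply_of_ne_of_ne hta htb, Function.update_of_ne htb, Function.update_of_ne hta,
        Pi.single_eq_of_ne hta, Pi.single_eq_of_ne htb]
      simp
  -- its conjugate
  set ψ : 𝕍 := fun l => η ⬝ᵥ (((g⁻¹ : 𝔾) : Matrix (Fin n) (Fin n) F) *ᵥ Pi.single l 1) with hψ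
  have hψx : ∀ w : 𝕍, ψ ⬝ᵥ ((g : Matrix (Fin n) (Fin n) F) *ᵥ w) = η ⬝ᵥ w := fun w => by
    conv_rhs => rw [← inv_mulVec_mulVec g w]
    set u := (g : Matrix (Fin n) (Fin n) F) *ᵥ w
    conv_rhs => rw [sum_single u, mulVec_sum, dotProduct_sum]
    exact Finset.sum_congr rfl fun l _ => by rw [mulVec_smul, dotProduct_smul, smul_eq_mul, mul_comm]
  set v : 𝕍 := (g : Matrix (Fin n) (Fin n) F) *ᵥ f with hv
  have hT' : TrIn H v ψ := hT.map hg hψx
  have hvt : ∀ t, v t = C a t + lam * C b t := fun t => by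
    have : f = Pi.single a 1 + lam • Pi.single b 1 := by rw [hf, ← Pi.single_smul, smul_eq_mul, mul_one]
    rw [hv, this, mulVec_add, mulVec_smul]; rfl
  have hvx : v x ≠ 0 := by rw [hvt]; exact hsum x hlx (Or.inl hx)
  have hvy : v y ≠ 0 := by rw [hvt]; exact hsum y hly (Or.inl hy)
  have hvz : v z ≠ 0 := by rw [hvt]; exact hsum z hlz hbz
  have hψ0 : ψ ≠ 0 := fun e => by
    have h1 := hψx (Pi.single a 1)
    rw [e, zero_dotProduct, hη, add_dotProduct, single_dotProduct, single_dotProduct,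
      Pi.single_eq_same, Pi.single_eq_of_ne hba] at h1
    simp at h1
  have horth : ψ ⬝ᵥ v = 0 := by
    rw [hv, hψx, hη, hf, add_dotProduct, single_dotProduct, single_dotProduct, Pi.add_apply, Pi.add_apply,
      Pi.single_eq_same, Pi.single_eq_same, Pi.single_eq_of_ne hba, Pi.single_eq_of_ne hba.symm, add_zero, zero_add,
      one_mul, inv_mul_cancel₀ hl0]
    linear_combination h2
  by_cases hψk : ∃ k, ψ k = 0
  · exact eq_slGL_of_trIn hn hq hH hM hT' hxy (Ne.symm hz.1) (Ne.symm hz.2) hvx hvy hvz hψ0 hψk.choose_spec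
  push Not at hψk
  by_cases hvk : ∃ k, v k = 0
  · exact eq_of_dual_eq (eq_slGL_of_trIn hn hq (dual_le hH) hM.dual (hT'.dual horth) hxy (Ne.symm hz.1) (Ne.symm hz.2)
      (hψk x) (hψk y) (hψk z) (neg_ne_zero.mpr fun e => hvx (congrFun e x)) (k := hvk.choose)
      (by rw [Pi.neg_apply, hvk.choose_spec, neg_zero]))
  push Not at hvk
  by_cases hcon : ∀ l, ψ l * v l = ψ x * v x
  swap
  · push Not at hcon
    obtain ⟨l, hl⟩ := hcon
    have hlx' : l ≠ x := fun e => hl (e ▸ rfl)
    set σ := Equiv.swap x l with hσ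
    obtain ⟨p, hp, hpm, hpx, -⟩ := exists_scaledPerm σ (fun t => v t / v (σ t))
      (fun t => div_ne_zero (hvk t) (hvk _)) (by
        rw [Finset.prod_div_distrib, Equiv.prod_comp σ v, div_self (Finset.prod_ne_zero_iff.mpr fun t _ => hvk t),
          one_mul, Equiv.Perm.sign_swap hlx'.symm]
        simp [hneg])
    set χ : 𝕍 := fun t => ψ (σ t) * v (σ t) / v t with hχ
    have hpv : (p : Matrix (Fin n) (Fin n) F) *ᵥ v = v := funext fun t => by
      rw [hpx, div_mul_cancel₀ _ (hvk _)]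
    have h1 : TrIn H v (ψ + (χ - ψ)) := by
      have := hT'.map (hM p hp hpm) (ψ := χ) (fun w => by
        simp only [dotProduct]
        rw [← Equiv.sum_comp σ (fun t => ψ t * w t)]
        refine Finset.sum_congr rfl fun t _ => ?_
        rw [hpx, hχ]
        have := hvk t
        have := hvk (σ t)
        field_simp)
      rw [hpv] at this
      simpa using this
    have hχv : χ ⬝ᵥ v = 0 := by
      rw [← horth]
      simp only [dotProduct, hχ]
      rw [← Equiv.sum_comp σ (fun t => ψ t * v t)]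
      exact Finset.sum_congr rfl fun t _ => by rw [div_mul_cancel₀ _ (hvk t)]
    obtain ⟨k, hk⟩ := exists_outside hn {x, l} (Finset.card_le_two.trans (by norm_num))
    simp only [Finset.mem_insert, Finset.mem_singleton, not_or] at hk
    refine eq_slGL_of_trIn hn hq hH hM (hT'.sub_axis h1 horth (by rw [sub_dotProduct, hχv, horth, sub_zero])) hxy
      (Ne.symm hz.1) (Ne.symm hz.2) hvx hvy hvz (fun e => hl ?_) (k := k) ?_
    · have h3 := congrFun e x
      rw [Pi.sub_apply, Pi.zero_apply, sub_eq_zero, hχ] at h3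
      simp only [hσ, Equiv.swap_apply_left] at h3
      rw [div_eq_iff hvx] at h3
      exact h3
    · rw [Pi.sub_apply, hχ]
      simp only [hσ, Equiv.swap_apply_of_ne_of_ne hk.1 hk.2]
      rw [mul_div_cancel_right₀ _ (hvk k), sub_self]
  -- all products equal
  obtain ⟨E, S, μ, k, hkS, hSn, hES, hEx, hμ, hDne, hDprod, hEsum⟩ :
      ∃ (E : 𝕍) (S : Finset (Fin n)) (μ : F) (k : Fin n), k ∉ S ∧ S.card + 3 ≤ n ∧ (∀ t, t ∉ S → E t = 0) ∧
        E x ≠ 0 ∧ μ ≠ 0 ∧ (∀ t, 1 + E t ≠ 0) ∧ ∏ t, μ * (1 + E t) = 1 ∧ ψ ⬝ᵥ (E * v) = 0 := by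
    have hEv : ∀ (t : Fin n) (a : F), ψ ⬝ᵥ ((Pi.single t a : 𝕍) * v) = a * (ψ x * v x) := fun t a => by
      rw [show (Pi.single t a : 𝕍) * v = Pi.single t (a * v t) from funext fun l => by
        rcases eq_or_ne l t with rfl | h <;> simp [*], dotProduct_single]
      linear_combination a * hcon t
    rcases Nat.lt_or_ge n 7 with hn7 | hn7
    · -- six lines: two equal values
      obtain rfl : n = 6 := by omega
      obtain ⟨s, hs0, hs1, -, hs3⟩ := exists_ne_order_three hq
      have hσ : s ^ 3 ≠ 1 := fun e => hs3 (mul_left_cancel₀ (sub_ne_zero.mpr hs1)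
        (show (s - 1) * (s * s + s + 1) = (s - 1) * 0 by linear_combination e))
      obtain ⟨k, hk⟩ := exists_outside hn {x, y} (Finset.card_le_two.trans (by norm_num))
      refine ⟨Pi.single x (s ^ 3 - 1 : F) + Pi.single y (s ^ 3 - 1 : F), {x, y}, s⁻¹, k, hk, ?_, fun t ht => ?_, ?_,
        inv_ne_zero hs0, fun t => ?_, ?_, ?_⟩
      · have := Finset.card_le_two (a := x) (b := y)
        omega
      · simp only [Finset.mem_insert, Finset.mem_singleton, not_or] at ht
        simp [ht.1, ht.2]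
      · simp [hxy, sub_eq_zero, hσ]
      · simp only [Pi.add_apply, Pi.single_apply]
        split_ifs <;> subst_vars <;> simp_all
      · rw [Finset.prod_mul_distrib, Finset.prod_const, Finset.card_univ, Fintype.card_fin,
          ← Finset.prod_subset (s₁ := {x, y}) (Finset.subset_univ _) (fun t _ ht => by
            simp only [Finset.mem_insert, Finset.mem_singleton, not_or] at ht
            simp [ht.1, ht.2]),
          Finset.prod_pair hxy]
        simp [hxy, hxy.symm]
        field_simp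
      · rw [add_mul, dotProduct_add, hEv, hEv]
        linear_combination (s ^ 3 - 1) * (ψ x * v x) * h2
    obtain ⟨s, hs0, hs1, -⟩ := exists_ne_pm_one hq
    obtain ⟨e₁, he1⟩ := exists_outside hn {x, y, z} (Finset.card_le_three.trans (by norm_num))
    simp only [Finset.mem_insert, Finset.mem_singleton, not_or] at he1
    obtain ⟨k, hk⟩ := exists_outside_four h6 x y z e₁
    set E : 𝕍 := Pi.single x (s - 1) + Pi.single y (s⁻¹ - 1) + Pi.single z (s - 1) + Pi.single e₁ (s⁻¹ - 1) with hE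
    refine ⟨E, {x, y, z, e₁}, 1, k, hk, ?_, fun t ht => ?_, ?_, one_ne_zero, fun t => ?_, ?_, ?_⟩
    · have := Finset.card_le_four (a := x) (b := y) (c := z) (d := e₁)
      omega
    · simp only [Finset.mem_insert, Finset.mem_singleton, not_or] at ht
      simp [hE, ht.1, ht.2.1, ht.2.2.1, ht.2.2.2]
    · simp [hE, hxy, Ne.symm hz.1, Ne.symm he1.1, sub_eq_zero, hs1]
    · simp only [hE, Pi.add_apply, Pi.single_apply]
      split_ifs <;> subst_vars <;> simp_all
    · rw [← Finset.prod_subset (s₁ := {x, y, z, e₁}) (Finset.subset_univ _) (fun t _ ht => by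
          simp only [Finset.mem_insert, Finset.mem_singleton, not_or] at ht
          simp [hE, ht.1, ht.2.1, ht.2.2.1, ht.2.2.2]),
        Finset.prod_insert (by simp [hxy, Ne.symm hz.1, Ne.symm he1.1]),
        Finset.prod_insert (by simp [Ne.symm hz.2, Ne.symm he1.2.1]),
        Finset.prod_pair (Ne.symm he1.2.2)]
      simp [hE, hxy, hxy.symm, hz.1, Ne.symm hz.1, hz.2, Ne.symm hz.2, he1.1, Ne.symm he1.1, he1.2.1,
        Ne.symm he1.2.1, he1.2.2, Ne.symm he1.2.2]
      field_simp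
    · rw [hE, add_mul, add_mul, add_mul, dotProduct_add, dotProduct_add, dotProduct_add, hEv, hEv, hEv, hEv]
      linear_combination ψ x * v x * (s + s⁻¹ - 2) * h2
  have hEk : E k = 0 := hES k hkS
  set D : 𝕍 := fun t => μ * (1 + E t) with hD
  obtain ⟨p, hp, hpm, hpx, -⟩ := exists_scaledPerm 1 D (fun t => mul_ne_zero hμ (hDne t))
    (by simp only [hD]; rw [hDprod]; simp)
  set φ' : 𝕍 := fun t => ψ t / D t with hφ'
  have hT2 : TrIn H (D * v) φ' := by
    have := hT'.map (hM p hp hpm) (ψ := φ') (fun w => Finset.sum_congr rfl fun t _ => by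
      rw [hpx, Equiv.Perm.one_apply, hφ']
      have : D t ≠ 0 := mul_ne_zero hμ (hDne t)
      field_simp)
    rwa [show (p : Matrix (Fin n) (Fin n) F) *ᵥ v = D * v from funext fun t => by
      rw [hpx, Equiv.Perm.one_apply, Pi.mul_apply]] at this
  have hA : ψ ⬝ᵥ (D * v) = 0 := by
    rw [show D * v = μ • (v + E * v) from funext fun t => by simp [hD]; ring, dotProduct_smul, dotProduct_add,
      horth, hEsum]
    simp
  obtain ⟨t₁, ht₁, ht₁x⟩ := hT'
  obtain ⟨t₂, ht₂, ht₂x⟩ := hT2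
  set w := t₁ * t₂ with hw
  have hwk : ∀ t, ((w : Matrix (Fin n) (Fin n) F) *ᵥ Pi.single k 1) t =
      (Pi.single k 1 : 𝕍) t + ψ k * (E t * v t) := by
    intro t
    rw [hw, Units.val_mul, ← mulVec_mulVec, ht₂x, ht₁x, dotProduct_add, dotProduct_smul, hA,
      dotProduct_single, dotProduct_single, hφ']
    simp only [hD, hEk, add_zero, mul_one, smul_zero, Pi.add_apply, Pi.smul_apply, Pi.mul_apply, smul_eq_mul]
    field_simp
    linear_combination μ * ψ k * v t * h2
  have hxk : x ≠ k := fun e => hEx (e ▸ hEk)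
  refine eq_slGL_of_small_col hn hq hH hM h6 (H.mul_mem ht₁ ht₂) (fun hmono => ?_) (j := k)
    (insert k S) (by have := Finset.card_insert_le k S; omega) fun t ht => ?_
  · obtain ⟨o, c, hc⟩ := hmono k
    have h1 := congrFun hc k
    have h3 := congrFun hc x
    rw [hwk] at h1 h3
    rw [hEk, Pi.single_eq_same, zero_mul, mul_zero, add_zero] at h1
    rw [Pi.single_eq_of_ne hxk, zero_add] at h3
    rcases eq_or_ne o k with rfl | ho'
    · simp [hxk, hψk o, hvx, hEx] at h3
    · simp [Ne.symm ho'] at h1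
  · simp only [Finset.mem_insert, not_or] at ht
    rw [hwk]
    simp [ht.1, hES t ht.2]

/-- The case of a zero entry in odd characteristic. -/
theorem eq_slGL_of_zero_entry (h6 : 6 ≤ n) (h2 : (2 : F) ≠ 0) {g : 𝔾} (hg : g ∈ H) (hgn : ¬IsMono g) {i k : Fin n}
    (hki : ((g : Matrix (Fin n) (Fin n) F) *ᵥ Pi.single i 1) k = 0) : H = slGL n F := by
  classical
  set u := (g : Matrix (Fin n) (Fin n) F) *ᵥ Pi.single i 1 with hu
  by_cases hwt : ∃ a b, a ≠ b ∧ u a ≠ 0 ∧ u b ≠ 0
  swap
  · push Not at hwt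
    obtain ⟨a, ha⟩ : ∃ a, u a ≠ 0 := by
      by_contra hno
      push Not at hno
      exact single_ne (F := F) i (mulVec_inj g (by rw [← hu, mulVec_zero]; exact funext hno))
    exact eq_slGL_of_col hn hq hH hM hg hgn (l := i) (o := a) (eq_smul_single fun t ht => hwt a t (Ne.symm ht) ha)
  obtain ⟨a, b, hab, ha, hb⟩ := hwt
  have hak : a ≠ k := fun e => ha (e ▸ hki)
  have hbk : b ≠ k := fun e => hb (e ▸ hki)
  set d : 𝕍 := Function.update (Function.update 1 a (u a / u b)) b (u b / u a) with hd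
  obtain ⟨p, hp, hpm, hpx, hpk, -⟩ := exists_phased (Equiv.swap a b) k d (fun l _ => by
    rcases eq_or_ne l b with rfl | hlb
    · simp [hd, ha, hb]
    rcases eq_or_ne l a with rfl | hla
    · simp only [hd, Function.update_of_ne hlb, Function.update_self]
      exact div_ne_zero ha hb
    · simp [hd, hlb, hla])
  have hprod : ∏ l ∈ Finset.univ.erase k, d l = 1 := by
    rw [← Finset.prod_subset (s₁ := {a, b}) (fun l hl => by
        simp only [Finset.mem_insert, Finset.mem_singleton] at hl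
        rcases hl with rfl | rfl <;> simp [hak, hbk]) (fun l _ hl => by
        simp only [Finset.mem_insert, Finset.mem_singleton, not_or] at hl
        simp [hd, hl.1, hl.2]), Finset.prod_pair hab]
    simp [hd, hab]
    field_simp
  set w : 𝕍 := Pi.single a (u a) - Pi.single b (u b) with hw
  have hmove : ∀ z : 𝕍, (p : Matrix (Fin n) (Fin n) F) *ᵥ z =
      z + (z b / u b - z a / u a) • w + (-2 * z k) • Pi.single k 1 := by
    intro z
    funext t
    simp only [Pi.add_apply, Pi.smul_apply, smul_eq_mul, hw, Pi.sub_apply]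
    rcases eq_or_ne t k with rfl | htk
    · rw [hpk, hprod, Equiv.swap_apply_of_ne_of_ne hak.symm hbk.symm, Equiv.Perm.sign_swap hab,
        Pi.single_eq_of_ne hak.symm, Pi.single_eq_of_ne hbk.symm, Pi.single_eq_same]
      simp
      ring
    rw [hpx _ t htk, Pi.single_eq_of_ne htk]
    rcases eq_or_ne t b with rfl | htb
    · rw [Equiv.swap_apply_right, Pi.single_eq_of_ne hab.symm, Pi.single_eq_same]
      simp only [hd, Function.update_self]
      field_simp
      ring
    rcases eq_or_ne t a with rfl | hta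
    · rw [Equiv.swap_apply_left, Pi.single_eq_same, Pi.single_eq_of_ne htb]
      simp only [hd, Function.update_of_ne htb, Function.update_self]
      field_simp
      ring
    · rw [Equiv.swap_apply_of_ne_of_ne hta htb, Pi.single_eq_of_ne hta, Pi.single_eq_of_ne htb]
      simp [hd, hta, htb]
  set y := g⁻¹ * p * g with hy
  have hyx : ∀ z : 𝕍, (y : Matrix (Fin n) (Fin n) F) *ᵥ z =
      ((g⁻¹ : 𝔾) : Matrix (Fin n) (Fin n) F) *ᵥ ((p : Matrix (Fin n) (Fin n) F) *ᵥ
        ((g : Matrix (Fin n) (Fin n) F) *ᵥ z)) := fun z => by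
    rw [hy, Units.val_mul, Units.val_mul, ← mulVec_mulVec, ← mulVec_mulVec]
  by_cases hym : IsMono y
  swap
  · refine eq_slGL_of_fix hn hq hH hM (m := i) (H.mul_mem (H.mul_mem (H.inv_mem hg) (hM p hp hpm)) hg) (c := 1) ?_ hym
    rw [hyx, hmove, ← hu, hki, div_self hb, div_self ha, sub_self, mul_zero, zero_smul, zero_smul, add_zero,
      add_zero, hu, inv_mulVec_mulVec, one_smul]
  set V₁ := ((g⁻¹ : 𝔾) : Matrix (Fin n) (Fin n) F) *ᵥ w
  set V₂ := ((g⁻¹ : 𝔾) : Matrix (Fin n) (Fin n) F) *ᵥ Pi.single k 1 with hV₂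
  set α : 𝕍 := fun l => ((g : Matrix (Fin n) (Fin n) F) *ᵥ Pi.single l 1) b / u b -
    ((g : Matrix (Fin n) (Fin n) F) *ᵥ Pi.single l 1) a / u a with hα
  set β : 𝕍 := fun l => -2 * ((g : Matrix (Fin n) (Fin n) F) *ᵥ Pi.single l 1) k with hβ
  have hcol : ∀ l, (y : Matrix (Fin n) (Fin n) F) *ᵥ Pi.single l 1 = Pi.single l 1 + α l • V₁ + β l • V₂ :=
    fun l => by rw [hyx, hmove, mulVec_add, mulVec_add, mulVec_smul, mulVec_smul, inv_mulVec_mulVec]
  choose o c hc using hym
  have hoff : ∀ l t, t ≠ l → t ≠ o l → α l * V₁ t + β l * V₂ t = 0 := by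
    intro l t h1 h2
    have := congrFun ((hc l).symm.trans (hcol l)) t
    simpa [h1, h2, add_assoc] using this.symm
  have hfinish : ∀ s : Finset (Fin n), s.card ≤ 4 → (∀ t, t ∉ s → V₂ t = 0) → H = slGL n F := fun s hs h =>
    eq_slGL_of_small_col hn hq hH hM h6 (H.inv_mem hg) (fun h' => hgn (by simpa using h'.inv)) (j := k) s (by omega) h
  by_cases hdet : ∃ l₁ l₂, α l₁ * β l₂ - α l₂ * β l₁ ≠ 0
  · obtain ⟨l₁, l₂, hne⟩ := hdet
    refine hfinish {l₁, o l₁, l₂, o l₂} (Finset.card_le_four.trans (by norm_num)) fun t ht => ?_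
    simp only [Finset.mem_insert, Finset.mem_singleton, not_or] at ht
    have h1 := hoff l₁ t ht.1 ht.2.1
    have h3 := hoff l₂ t ht.2.2.1 ht.2.2.2
    have : (α l₁ * β l₂ - α l₂ * β l₁) * V₂ t = 0 := by linear_combination α l₁ * h3 - α l₂ * h1
    exact (mul_eq_zero.mp this).resolve_left hne
  push Not at hdet
  obtain ⟨l₁, hl₁⟩ : ∃ l, β l ≠ 0 := by
    obtain ⟨l, hl⟩ := exists_col_ne g k
    exact ⟨l, mul_ne_zero (neg_ne_zero.mpr h2) hl⟩
  refine hfinish {l₁, o l₁} (Finset.card_le_two.trans (by norm_num)) fun t ht => ?_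
  simp only [Finset.mem_insert, Finset.mem_singleton, not_or] at ht
  have hall : ∀ l, α l * V₁ t + β l * V₂ t = 0 := fun l => by
    have : β l₁ * (α l * V₁ t + β l * V₂ t) = 0 := by
      linear_combination β l * hoff l₁ t ht.1 ht.2 - V₁ t * hdet l₁ l
    exact (mul_eq_zero.mp this).resolve_left hl₁
  set x₀ := ((g⁻¹ : 𝔾) : Matrix (Fin n) (Fin n) F) *ᵥ Pi.single k 1 with hx₀
  have h1 : ∑ l, x₀ l * (α l * V₁ t + β l * V₂ t) = 0 :=
    Finset.sum_eq_zero fun l _ => by rw [hall, mul_zero]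
  have hg1 : ∀ j, ∑ l, x₀ l * ((g : Matrix (Fin n) (Fin n) F) *ᵥ Pi.single l 1) j = (Pi.single k 1 : 𝕍) j :=
    fun j => by rw [← mulVec_eq_sum_col, hx₀, mulVec_inv_mulVec]
  have hex : ∀ l, x₀ l * (α l * V₁ t + β l * V₂ t) =
      (x₀ l * ((g : Matrix (Fin n) (Fin n) F) *ᵥ Pi.single l 1) b) * (V₁ t / u b) -
      (x₀ l * ((g : Matrix (Fin n) (Fin n) F) *ᵥ Pi.single l 1) a) * (V₁ t / u a) +
      (x₀ l * ((g : Matrix (Fin n) (Fin n) F) *ᵥ Pi.single l 1) k) * (-2 * V₂ t) := fun l => by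
    simp only [hα, hβ]; ring
  simp only [hex, Finset.sum_add_distrib, Finset.sum_sub_distrib, ← Finset.sum_mul, hg1,
    Pi.single_eq_of_ne hak, Pi.single_eq_of_ne hbk, Pi.single_eq_same, zero_mul, sub_zero, zero_add, one_mul] at h1
  exact (mul_eq_zero.mp h1).resolve_left (neg_ne_zero.mpr h2)

/-- A non-monomial element can be taken with a zero entry. -/
theorem exists_zero_entry (h6 : 6 ≤ n) {g : 𝔾} (hg : g ∈ H) (hgn : ¬IsMono g) :
    ∃ g' ∈ H, ¬IsMono g' ∧ ∃ i k, ((g' : Matrix (Fin n) (Fin n) F) *ᵥ Pi.single i 1) k = 0 := by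
  classical
  by_contra hno
  push Not at hno
  set A := ((g⁻¹ : 𝔾) : Matrix (Fin n) (Fin n) F) with hAdef
  set C : Fin n → 𝕍 := fun l => (g : Matrix (Fin n) (Fin n) F) *ᵥ Pi.single l 1 with hC
  have hC0 : ∀ l t, C l t ≠ 0 := hno g hg hgn
  have hA0 : ∀ l t, (A *ᵥ Pi.single l 1) t ≠ 0 :=
    hno g⁻¹ (H.inv_mem hg) fun h' => hgn (by simpa using h'.inv)
  set a : Fin n := ⟨0, by omega⟩ with ha
  set b : Fin n := ⟨1, by omega⟩ with hb
  have hab : a ≠ b := by simp [ha, hb]
  set P : 𝕍 := A *ᵥ Pi.single a 1 with hP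
  set Q : 𝕍 := A *ᵥ Pi.single b 1 with hQ
  -- an off-diagonal place where the two rank one pieces differ
  obtain ⟨i, j, hij, hne⟩ : ∃ i j, i ≠ j ∧ Q i * C j b ≠ P i * C j a := by
    by_contra hall
    push Not at hall
    obtain ⟨j₀, hj₀⟩ : ∃ j₀ : Fin n, j₀ ≠ a := ⟨b, Ne.symm hab⟩
    have hprop : ∀ i, ∀ k, Q i * P k = P i * Q k := by
      intro i k
      obtain ⟨j, hj⟩ := exists_outside hn {i, k} (Finset.card_le_two.trans (by norm_num))
      simp only [Finset.mem_insert, Finset.mem_singleton, not_or] at hj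
      refine mul_right_cancel₀ (mul_ne_zero (hC0 j a) (hC0 j b)) ?_
      linear_combination (P k * C j a) * hall i j (Ne.symm hj.1) - (P i * C j a) * hall k j (Ne.symm hj.2)
    have h1 : (P a) • Q = (Q a) • P := funext fun k => by
      simp only [Pi.smul_apply, smul_eq_mul]; linear_combination -hprop a k
    have h3 := congrArg ((g : Matrix (Fin n) (Fin n) F) *ᵥ ·) h1
    simp only [hP, hQ, hAdef, mulVec_smul, mulVec_inv_mulVec] at h3
    have h4 := congrFun h3 b
    simp [hab, hab.symm] at h4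
    exact hA0 a a (by simpa [hAdef] using h4)
  have hs0 : Q i * C j b / (P i * C j a) ≠ 0 :=
    div_ne_zero (mul_ne_zero (hA0 b i) (hC0 j b)) (mul_ne_zero (hA0 a i) (hC0 j a))
  set s := Q i * C j b / (P i * C j a) with hs
  have hs1 : s ≠ 1 := fun e => hne (by rwa [hs, div_eq_one_iff_eq (mul_ne_zero (hA0 a i) (hC0 j a))] at e)
  obtain ⟨d, hd, hdm, hda, hdb, hdo, -⟩ := exists_torus hab hs0
  set y := g⁻¹ * d * g with hy
  have hyH : y ∈ H := H.mul_mem (H.mul_mem (H.inv_mem hg) (hM d hd hdm)) hg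
  have hcol : ∀ l, (y : Matrix (Fin n) (Fin n) F) *ᵥ Pi.single l 1 =
      Pi.single l 1 + ((s - 1) * C l a) • P + ((s⁻¹ - 1) * C l b) • Q := by
    intro l
    rw [hy, Units.val_mul, Units.val_mul, ← mulVec_mulVec, ← mulVec_mulVec,
      show (d : Matrix (Fin n) (Fin n) F) *ᵥ C l =
        C l + ((s - 1) * C l a) • Pi.single a 1 + ((s⁻¹ - 1) * C l b) • Pi.single b 1 from funext fun t => by
        simp only [Pi.add_apply, Pi.smul_apply, smul_eq_mul]
        rcases eq_or_ne t a with rfl | hta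
        · simp [hda, hab]; ring
        rcases eq_or_ne t b with rfl | htb
        · simp [hdb, hta]; ring
        · simp [hdo _ t hta htb, hta, htb],
      mulVec_add, mulVec_add, mulVec_smul, mulVec_smul, hC, inv_mulVec_mulVec]
  have hyij : ((y : Matrix (Fin n) (Fin n) F) *ᵥ Pi.single j 1) i = 0 := by
    rw [hcol]
    simp only [Pi.add_apply, Pi.smul_apply, smul_eq_mul, Pi.single_eq_of_ne hij, zero_add]
    have : P i ≠ 0 := hA0 a i
    have : Q i ≠ 0 := hA0 b i
    have := hC0 j a; have := hC0 j b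
    rw [hs]
    field_simp
    ring
  by_cases hym : IsMono y
  swap
  · exact hno y hyH hym j i hyij
  -- a monomial commutator makes two columns of the inverse proportional
  choose o c hc using hym
  have hoff : ∀ l t, t ≠ l → t ≠ o l → (s - 1) * C l a * P t + (s⁻¹ - 1) * C l b * Q t = 0 := by
    intro l t h1 h2
    have := congrFun ((hc l).symm.trans (hcol l)) t
    simpa [h1, h2, add_assoc] using this.symm
  obtain ⟨l, l', hll⟩ : ∃ l l', C l a * C l' b ≠ C l' a * C l b := by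
    by_contra hall
    push Not at hall
    obtain ⟨l₀, hl₀⟩ : ∃ l₀ : Fin n, l₀ = a := ⟨a, rfl⟩
    have h1 : ∀ w : 𝕍, ((g : Matrix (Fin n) (Fin n) F) *ᵥ w) a * C l₀ b =
        ((g : Matrix (Fin n) (Fin n) F) *ᵥ w) b * C l₀ a := by
      intro w
      rw [mulVec_eq_sum_col, mulVec_eq_sum_col, Finset.sum_mul, Finset.sum_mul]
      exact Finset.sum_congr rfl fun l _ => by linear_combination (w l) * hall l l₀
    have h2 := h1 P
    rw [hP, hAdef, mulVec_inv_mulVec] at h2
    simp [hab.symm] at h2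
    exact hC0 l₀ b h2
  obtain ⟨t, ht⟩ := exists_outside_four h6 l (o l) l' (o l')
  simp only [Finset.mem_insert, Finset.mem_singleton, not_or] at ht
  have h1 := hoff l t ht.1 ht.2.1
  have h2 := hoff l' t ht.2.2.1 ht.2.2.2
  refine mul_ne_zero (mul_ne_zero (sub_ne_zero.mpr hs1) (sub_ne_zero.mpr hll)) (hA0 a t) ?_
  show (s - 1) * (C l a * C l' b - C l' a * C l b) * P t = 0
  linear_combination C l' b * h1 - C l b * h2

/-- An element not permuting the coordinate lines forces everything. -/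
theorem eq_slGL_of_not_mono (h6 : 6 ≤ n) {g : 𝔾} (hg : g ∈ H) (hgn : ¬IsMono g) : H = slGL n F := by
  by_cases h2 : (2 : F) = 0
  · exact eq_slGL_of_even hn hq hH hM h6 hg hgn h2
  · obtain ⟨g', hg', hgn', i, k, hik⟩ := exists_zero_entry hn hq hH hM h6 hg hgn
    exact eq_slGL_of_zero_entry hn hq hH hM h6 h2 hg' hgn' hik

end

end Cfsg.Agent.Lib.LinearFrame
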